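import Cfsg.Agent.Lead.PrimeAction

set_option autoImplicit false
open Pointwise

namespace Cfsg.Agent.Lead

open Subgroup
open scoped commutatorElement

/-- A `p'`-element `g` fixing the `p`-element `z = x⁻¹ (g x g⁻¹)` fixes `x`. -/
theorem conj_eq_of_stabilizes {G : Type*} [Group G] {p : ℕ} (g x : G)
    (hcop : (orderOf g).Coprime p) (e : ℕ) (hze : (x⁻¹ * (g * x * g⁻¹)) ^ p ^ e = 1)
    (hfix : g * (x⁻¹ * (g * x * g⁻¹)) * g⁻¹ = x⁻¹ * (g * x * g⁻¹)) : g * x * g⁻¹ = x := by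
  obtain ⟨z, hzdef⟩ : ∃ z, z = x⁻¹ * (g * x * g⁻¹) := ⟨_, rfl⟩
  rw [← hzdef] at hfix hze
  have hgx : g * x * g⁻¹ = x * z := by rw [hzdef]; group
  have hpow : ∀ j : ℕ, g ^ j * x * (g ^ j)⁻¹ = x * z ^ j := by
    intro j
    induction j with
    | zero => simp
    | succ j ihj =>
      calc g ^ (j + 1) * x * (g ^ (j + 1))⁻¹ = g * (g ^ j * x * (g ^ j)⁻¹) * g⁻¹ := by
            rw [pow_succ']; group
        _ = g * (x * z ^ j) * g⁻¹ := by rw [ihj]
        _ = (g * x * g⁻¹) * (g * z * g⁻¹) ^ j := by rw [conj_pow]; group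
        _ = x * z * z ^ j := by rw [hgx, hfix]
        _ = x * z ^ (j + 1) := by rw [pow_succ', mul_assoc]
  have hzm : z ^ orderOf g = 1 := by
    have h1 := hpow (orderOf g)
    rw [pow_orderOf_eq_one] at h1
    simpa using h1
  have hz1 : orderOf z = 1 :=
    Nat.Coprime.eq_one_of_dvd
      (Nat.Coprime.coprime_dvd_left (orderOf_dvd_of_pow_eq_one hzm) (hcop.pow_right e))
      (orderOf_dvd_of_pow_eq_one hze)
  rw [orderOf_eq_one_iff] at hz1
  rw [hgx, hz1, mul_one]

/-- If the action of the `p'`-element `g` on `Q ≤ P` is induced, element by element, by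
elements of `P`, then `g` centralises `Q`. -/
theorem centralizes_of_local_fusion {G : Type*} [Group G] [Finite G] {p : ℕ} [Fact p.Prime]
    (P : Sylow p G) (Q : Subgroup G) (hQP : Q ≤ (P : Subgroup G)) (g : G)
    (hgN : g ∈ normalizer (Q : Set G)) (hcop : (orderOf g).Coprime p)
    (h : ∀ x ∈ Q, ∃ u ∈ (P : Subgroup G), u * x * u⁻¹ = g * x * g⁻¹) :
    g ∈ centralizer (Q : Set G) := by
  have hgQ : ∀ x ∈ Q, g * x * g⁻¹ ∈ Q := fun x hx => (mem_normalizer_iff.mp hgN x).mp hx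
  have hnil : Group.IsNilpotent (P : Subgroup G) := P.2.isNilpotent
  obtain ⟨c, hc⟩ := (Subgroup.isNilpotent_iff_lowerCentralSeries (P : Subgroup G)).mp hnil
  have stepA : ∀ n, ∀ x ∈ Q, x ∈ (P : Subgroup G).lowerCentralSeries n →
      x⁻¹ * (g * x * g⁻¹) ∈ (P : Subgroup G).lowerCentralSeries (n + 1) := by
    intro n x hxQ hxL
    obtain ⟨u, huP, hu⟩ := h x hxQ
    have e : x⁻¹ * (g * x * g⁻¹) = ⁅x⁻¹, u⁆ := by
      rw [commutatorElement_def, ← hu]; group
    rw [e, Subgroup.lowerCentralSeries_succ]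
    exact Subgroup.commutator_mem_commutator (inv_mem hxL) huP
  have stepB : ∀ k n, c ≤ n + k → ∀ x ∈ Q, x ∈ (P : Subgroup G).lowerCentralSeries n →
      g * x * g⁻¹ = x := by
    intro k
    induction k with
    | zero =>
      intro n hn x hxQ hxL
      have hbot : (P : Subgroup G).lowerCentralSeries n = ⊥ := by
        rw [eq_bot_iff, ← hc]
        exact Subgroup.lowerCentralSeries_antitone (P : Subgroup G) (by omega)
      rw [hbot, Subgroup.mem_bot] at hxL
      rw [hxL]; group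
    | succ k ih =>
      intro n hn x hxQ hxL
      have hz := stepA n x hxQ hxL
      have hzQ : x⁻¹ * (g * x * g⁻¹) ∈ Q := mul_mem (inv_mem hxQ) (hgQ x hxQ)
      have hzfix := ih (n + 1) (by omega) _ hzQ hz
      obtain ⟨e, he⟩ := P.2 ⟨_, hQP hzQ⟩
      have hze : (x⁻¹ * (g * x * g⁻¹)) ^ p ^ e = 1 := by simpa using congrArg Subtype.val he
      exact conj_eq_of_stabilizes g x hcop e hze hzfix
  rw [mem_centralizer_iff]
  intro x hxQ
  have hfix := stepB c 0 (by omega) x hxQ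
    (by rw [Subgroup.lowerCentralSeries_zero]; exact hQP hxQ)
  calc x * g = (g * x * g⁻¹) * g := by rw [hfix]
    _ = g * x := by group

/-- If a Sylow `p`-subgroup controls the fusion of its own elements, then Frobenius' hypothesis
holds. -/
theorem frobHyp_of_controls_fusion {G : Type*} [Group G] [Finite G] {p : ℕ} [Fact p.Prime]
    (P : Sylow p G)
    (h : ∀ x ∈ (P : Subgroup G), ∀ y ∈ (P : Subgroup G), (∃ g : G, g * x * g⁻¹ = y) →
      ∃ z ∈ (P : Subgroup G), z * x * z⁻¹ = y) : FrobHyp p G := by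
  apply frobHyp_of_sylow P
  intro Q hQP g hgN hcop
  have hgQ : ∀ x ∈ Q, g * x * g⁻¹ ∈ Q := fun x hx => (mem_normalizer_iff.mp hgN x).mp hx
  exact centralizes_of_local_fusion P Q hQP g hgN hcop
    (fun x hx => h x (hQP hx) (g * x * g⁻¹) (hQP (hgQ x hx)) ⟨g, rfl⟩)

/-- A Sylow `p`-subgroup controlling the fusion of its own elements has a normal complement. -/
theorem npc_of_controls_fusion {G : Type*} [Group G] [Finite G] {p : ℕ} [Fact p.Prime]
    (P : Sylow p G)
    (h : ∀ x ∈ (P : Subgroup G), ∀ y ∈ (P : Subgroup G), (∃ g : G, g * x * g⁻¹ = y) →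
      ∃ z ∈ (P : Subgroup G), z * x * z⁻¹ = y) :
    ∃ K : Subgroup G, K.Normal ∧ K.IsComplement' (P : Subgroup G) :=
  frobenius_npc (frobHyp_of_controls_fusion P h) P

end Cfsg.Agent.Lead
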