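import Cfsg.Agent.Lead.FusionNPC
import Cfsg.Agent.Helper1.Coprime
import Cfsg.Agent.Helper1.SZ

set_option autoImplicit false
open Pointwise

namespace Cfsg.Agent.Lead

open Subgroup

/-- A complement inside a subgroup `L`, stated inside the ambient group. -/
theorem exists_internal_complement {G : Type*} [Group G] [Finite G] (L H : Subgroup G)
    (hHL : H ≤ L) (N' : Subgroup L) (hN' : N'.Normal) (hc : N'.IsComplement' (H.subgroupOf L)) :
    ∃ M : Subgroup G, M ≤ L ∧ (∀ l ∈ L, ∀ m ∈ M, l * m * l⁻¹ ∈ M) ∧
      (∀ x, x ∈ M → x ∈ H → x = 1) ∧ (∀ l ∈ L, ∃ m ∈ M, ∃ h ∈ H, l = m * h) ∧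
      Nat.card M * Nat.card H = Nat.card L := by
  obtain ⟨h1, h2⟩ := Cfsg.Agent.Helper1.isComplement'_iff_elem.mp hc
  refine ⟨N'.map L.subtype, ?_, ?_, ?_, ?_, ?_⟩
  · exact Subgroup.map_subtype_le _
  · rintro l hl m ⟨m', hm', rfl⟩
    exact ⟨⟨l, hl⟩ * m' * ⟨l, hl⟩⁻¹, hN'.conj_mem m' hm' ⟨l, hl⟩, rfl⟩
  · rintro x ⟨x', hx', rfl⟩ hxH
    have := h1 x' hx' (Subgroup.mem_subgroupOf.mpr hxH)
    rw [this]; rfl
  · intro l hl
    obtain ⟨n, hn, h, hh, e⟩ := h2 ⟨l, hl⟩
    exact ⟨n, ⟨n, hn, rfl⟩, h, Subgroup.mem_subgroupOf.mp hh, congrArg Subtype.val e⟩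
  · rw [Subgroup.card_map_of_injective L.subtype_injective,
      ← Nat.card_congr (Subgroup.subgroupOfEquivOfLe hHL).toEquiv]
    exact hc.card_mul_card

/-- A Hall subgroup contains a Sylow `p`-subgroup of the group for every prime `p` dividing its
order. -/
theorem exists_sylow_le_hall {G : Type*} [Group G] [Finite G] (H : Subgroup G)
    (hHall : Nat.Coprime (Nat.card H) H.index) (p : ℕ) [hp : Fact p.Prime]
    (hpH : p ∣ Nat.card H) :
    (Nat.card G).factorization p = (Nat.card H).factorization p ∧
      ∃ P : Sylow p G, (P : Subgroup G) ≤ H := by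
  have hH0 : Nat.card H ≠ 0 := Nat.card_pos.ne'
  have hnd : ¬ p ∣ H.index :=
    (Nat.Prime.coprime_iff_not_dvd hp.1).mp (Nat.Coprime.coprime_dvd_left hpH hHall)
  have hfac : (Nat.card G).factorization p = (Nat.card H).factorization p := by
    rw [← Subgroup.card_mul_index H, Nat.factorization_mul hH0 Subgroup.index_ne_zero_of_finite,
      Finsupp.add_apply, Nat.factorization_eq_zero_of_not_dvd hnd, add_zero]
  refine ⟨hfac, ?_⟩
  obtain ⟨PH⟩ : Nonempty (Sylow p H) := inferInstance
  have hcardP : Nat.card ((PH : Subgroup H).map H.subtype) =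
      p ^ (Nat.card G).factorization p := by
    rw [Subgroup.card_map_of_injective H.subtype_injective, Sylow.card_eq_multiplicity, hfac]
  exact ⟨Sylow.ofCard _ hcardP,
    (Sylow.coe_ofCard _ hcardP).le.trans (Subgroup.map_subtype_le _)⟩

/-- Index and order of a normal `p`-complement. -/
theorem npc_index_card {G : Type*} [Group G] [Finite G] {p : ℕ} [hp : Fact p.Prime]
    (P : Sylow p G) (K : Subgroup G) (hKc : K.IsComplement' (P : Subgroup G)) :
    K.index = p ^ (Nat.card G).factorization p ∧ (Nat.card K).Coprime p := by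
  constructor
  · rw [hKc.symm.index_eq_card, Sylow.card_eq_multiplicity]
  · have hl : Nat.card K = (P : Subgroup G).index := hKc.card_left
    rw [hl]
    exact ((Nat.Prime.coprime_iff_not_dvd hp.1).mpr P.not_dvd_index).symm

/-- Normal `p`-complements for all primes `p` dividing `|H|` intersect in a normal complement
of `H`. -/
theorem exists_normal_complement_of_forall_prime {G : Type*} [Group G] [Finite G]
    (H : Subgroup G)
    (step : ∀ p : ℕ, p.Prime → p ∣ Nat.card H → ∃ K : Subgroup G, K.Normal ∧
        K.index = p ^ (Nat.card H).factorization p ∧ (Nat.card K).Coprime p) :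
    ∃ N : Subgroup G, N.Normal ∧ N.IsComplement' H := by
  classical
  have hH0 : Nat.card H ≠ 0 := Nat.card_pos.ne'
  choose! K hKn hKi hKc using step
  obtain ⟨N, hNdef⟩ : ∃ N : Subgroup G, N = ⨅ p : (Nat.card H).primeFactors, K p.1 := ⟨_, rfl⟩
  have hN0 : N.index ≠ 0 := Subgroup.index_ne_zero_of_finite
  have hNn : N.Normal := by
    rw [hNdef]
    exact Subgroup.normal_iInf_normal (fun p => hKn p.1 (Nat.prime_of_mem_primeFactors p.2)
      (Nat.dvd_of_mem_primeFactors p.2))
  have hNle : ∀ p, p.Prime → p ∣ Nat.card H → N ≤ K p := by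
    intro p hp hd
    rw [hNdef]
    exact iInf_le (fun q : (Nat.card H).primeFactors => K q.1)
      ⟨p, Nat.mem_primeFactors.mpr ⟨hp, hd, hH0⟩⟩
  have hidx_le : N.index ≤ Nat.card H := by
    calc N.index ≤ ∏ p : (Nat.card H).primeFactors, (K p.1).index := by
          rw [hNdef]; exact Subgroup.index_iInf_le _
      _ = ∏ p : (Nat.card H).primeFactors, p.1 ^ (Nat.card H).factorization p.1 := by
          apply Finset.prod_congr rfl
          intro p _
          exact hKi p.1 (Nat.prime_of_mem_primeFactors p.2) (Nat.dvd_of_mem_primeFactors p.2)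
      _ = ∏ p ∈ (Nat.card H).primeFactors, p ^ (Nat.card H).factorization p :=
          Finset.prod_coe_sort _ (fun p => p ^ (Nat.card H).factorization p)
      _ = Nat.card H :=
          (Nat.prod_factorization_eq_prod_primeFactors (· ^ ·)).symm.trans
            (Nat.prod_factorization_pow_eq_self hH0)
  have hdvd : Nat.card H ∣ N.index := by
    rw [← Nat.factorization_prime_le_iff_dvd hH0 hN0]
    intro p hp
    by_cases hd : p ∣ Nat.card H
    · rw [← hp.pow_dvd_iff_le_factorization hN0, ← hKi p hp hd]
      exact Subgroup.index_dvd_of_le (hNle p hp hd)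
    · rw [Nat.factorization_eq_zero_of_not_dvd hd]; exact Nat.zero_le _
  have hidx : N.index = Nat.card H :=
    le_antisymm hidx_le (Nat.le_of_dvd (Nat.pos_of_ne_zero hN0) hdvd)
  refine ⟨N, hNn, ?_⟩
  apply Subgroup.isComplement'_of_card_mul_and_disjoint
  · rw [← hidx]; exact Subgroup.card_mul_index N
  · rw [Subgroup.disjoint_def]
    intro x hxN hxH
    by_contra hx1
    have hord : orderOf x ≠ 1 := fun h => hx1 (orderOf_eq_one_iff.mp h)
    obtain ⟨p, hp, hpd⟩ := Nat.exists_prime_and_dvd hord
    have hpH : p ∣ Nat.card H := hpd.trans (by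
      have := orderOf_dvd_natCard (⟨x, hxH⟩ : H)
      rwa [Subgroup.orderOf_mk] at this)
    have hxK : x ∈ K p := hNle p hp hpH hxN
    have hpK : p ∣ Nat.card (K p) := hpd.trans (by
      have := orderOf_dvd_natCard (⟨x, hxK⟩ : K p)
      rwa [Subgroup.orderOf_mk] at this)
    exact (Nat.Prime.coprime_iff_not_dvd hp).mp (hKc p hp hpH).symm hpK

/-- A Hall subgroup central in its normaliser has a normal complement (induction on the order
of the group). -/
theorem hall_central_aux.{u} : ∀ (n : ℕ) (G : Type u) [Group G] [Finite G], Nat.card G ≤ n →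
    ∀ H : Subgroup G, Nat.Coprime (Nat.card H) H.index →
    normalizer (H : Set G) ≤ centralizer (H : Set G) →
    ∃ N : Subgroup G, N.Normal ∧ N.IsComplement' H := by
  intro n
  induction n with
  | zero =>
    intro G _ _ hn
    exact absurd hn (by have := Nat.card_pos (α := G); omega)
  | succ n ih =>
    intro G _ _ hn H hHall hNC
    classical
    have hab : ∀ a ∈ H, ∀ b ∈ H, a * b = b * a := by
      intro a ha b hb
      exact (Subgroup.mem_centralizer_iff.mp (hNC (Subgroup.le_normalizer ha)) b hb).symm
    have hsolv : Group.IsSolvable H :=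
      Group.isSolvable_of_comm (fun a b => Subtype.ext (hab a a.2 b b.2))
    -- proper subgroups containing `H`
    have hsub : ∀ L : Subgroup G, H ≤ L → L ≠ ⊤ → ∃ M : Subgroup G, M ≤ L ∧
        (∀ l ∈ L, ∀ m ∈ M, l * m * l⁻¹ ∈ M) ∧ (∀ x, x ∈ M → x ∈ H → x = 1) ∧
        (∀ l ∈ L, ∃ m ∈ M, ∃ h ∈ H, l = m * h) ∧ Nat.card M * Nat.card H = Nat.card L := by
      intro L hHL hL
      have hlt : Nat.card L < Nat.card G := Cfsg.Agent.Helper1.card_lt_of_ne_top L hL
      have hcH : Nat.card (H.subgroupOf L) = Nat.card H :=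
        Nat.card_congr (Subgroup.subgroupOfEquivOfLe hHL).toEquiv
      have hHall' : Nat.Coprime (Nat.card (H.subgroupOf L)) (H.subgroupOf L).index := by
        rw [hcH]
        exact Nat.Coprime.coprime_dvd_right (Dvd.intro _ (Subgroup.relIndex_mul_index hHL)) hHall
      have hNC' : normalizer ((H.subgroupOf L : Subgroup L) : Set L) ≤
          centralizer ((H.subgroupOf L : Subgroup L) : Set L) := by
        intro x hx
        have hx' : (x : G) ∈ normalizer (H : Set G) := by
          apply Subgroup.mem_normalizer_fintype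
          intro y hy
          have := (Subgroup.mem_normalizer_iff.mp hx ⟨y, hHL hy⟩).mp (Subgroup.mem_subgroupOf.mpr hy)
          exact Subgroup.mem_subgroupOf.mp this
        have hc := hNC hx'
        rw [Subgroup.mem_centralizer_iff] at hc ⊢
        intro y hy
        exact Subtype.ext (hc (y : G) (Subgroup.mem_subgroupOf.mp hy))
      obtain ⟨N', hN', hc'⟩ := ih L (by omega) (H.subgroupOf L) hHall' hNC'
      exact exists_internal_complement L H hHL N' hN' hc'
    apply exists_normal_complement_of_forall_prime H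
    intro p hp hpH
    have : Fact p.Prime := ⟨hp⟩
    obtain ⟨hfac, P, hPH⟩ := exists_sylow_le_hall H hHall p hpH
    have hHC : H ≤ centralizer ((P : Subgroup G) : Set G) := by
      intro h hh
      rw [Subgroup.mem_centralizer_iff]
      intro x hx
      exact hab x (hPH hx) h hh
    have hHN : H ≤ normalizer ((P : Subgroup G) : Set G) :=
      hHC.trans (Subgroup.centralizer_le_normalizer _)
    have hNP : normalizer ((P : Subgroup G) : Set G) ≤ centralizer ((P : Subgroup G) : Set G) := by
      by_cases hL : normalizer ((P : Subgroup G) : Set G) = ⊤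
      · by_contra hcon
        have hCne : centralizer ((P : Subgroup G) : Set G) ≠ ⊤ := by
          intro hC; apply hcon; rw [hC]; exact le_top
        obtain ⟨R, hRC, hRn, hRH, hRdec, hRcard⟩ := hsub _ hHC hCne
        have hPn : (P : Subgroup G).Normal := Subgroup.normalizer_eq_top_iff.mp hL
        have hCn : (centralizer ((P : Subgroup G) : Set G)).Normal := Subgroup.normal_centralizer
        apply hCne
        rw [eq_top_iff]
        intro g _
        have h1 : MulAut.conj g • H ≤ R ⊔ H := by
          intro x hx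
          rw [Cfsg.Agent.Helper1.mem_conj_smul] at hx
          have hxC : x ∈ centralizer ((P : Subgroup G) : Set G) := by
            have := hCn.conj_mem _ (hHC hx) g
            have e : g * (g⁻¹ * x * g) * g⁻¹ = x := by group
            rwa [e] at this
          obtain ⟨m, hm, h, hh, rfl⟩ := hRdec x hxC
          exact Subgroup.mul_mem_sup hm hh
        have hcop : (Nat.card H).Coprime (Nat.card R) := by
          have h2 : Nat.card R ∣ H.index := by
            have h3 : Nat.card (centralizer ((P : Subgroup G) : Set G)) ∣ Nat.card G :=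
              Subgroup.card_subgroup_dvd_card _
            rw [← hRcard, ← Subgroup.card_mul_index H, mul_comm] at h3
            exact (Nat.mul_dvd_mul_iff_left Nat.card_pos).mp h3
          exact Nat.Coprime.coprime_dvd_right h2 hHall
        have hHR : H ≤ normalizer (R : Set G) := by
          intro h hh
          apply Subgroup.mem_normalizer_fintype
          intro r hr
          exact hRn h (hHC hh) r hr
        obtain ⟨d, hd, hdconj⟩ := Cfsg.Agent.Helper1.sz2 R H (MulAut.conj g • H) hHR h1
          (Cfsg.Agent.Helper1.card_conj_smul H g) hcop (Or.inl hsolv)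
        have h4 : d⁻¹ * g ∈ normalizer (H : Set G) := by
          rw [Cfsg.Agent.Helper1.mem_normalizer_iff_conj_smul, ← Cfsg.Agent.Helper1.conj_smul_smul,
            ← hdconj, Cfsg.Agent.Helper1.conj_smul_smul, inv_mul_cancel, map_one, one_smul]
        have h5 : d⁻¹ * g ∈ centralizer ((P : Subgroup G) : Set G) :=
          Subgroup.centralizer_le (SetLike.coe_subset_coe.mpr hPH) (hNC h4)
        have h6 := mul_mem (hRC hd) h5
        rwa [mul_inv_cancel_left] at h6
      · obtain ⟨M, hML, hMn, hMH, hMdec, -⟩ := hsub _ hHN hL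
        intro l hl
        obtain ⟨m, hm, h, hh, rfl⟩ := hMdec l hl
        refine mul_mem ?_ (hHC hh)
        rw [Subgroup.mem_centralizer_iff]
        intro x hx
        have hmN := hML hm
        have h1 : m * x * m⁻¹ ∈ (P : Subgroup G) := (Subgroup.mem_normalizer_iff.mp hmN x).mp hx
        have h2 : m * x * m⁻¹ * x⁻¹ ∈ (P : Subgroup G) := mul_mem h1 (inv_mem hx)
        have h3 : m * x * m⁻¹ * x⁻¹ ∈ M := by
          have : m * x * m⁻¹ * x⁻¹ = m * (x * m⁻¹ * x⁻¹) := by group
          rw [this]
          exact mul_mem hm (hMn x (hHN (hPH hx)) _ (inv_mem hm))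
        have h4 := hMH _ h3 (hPH h2)
        calc x * m = (m * x * m⁻¹ * x⁻¹)⁻¹ * (m * x) := by group
          _ = m * x := by rw [h4, inv_one, one_mul]
    obtain ⟨K, hK, hKc⟩ := (hasNormalPComplement_iff P).mp (burnside_npc P hNP)
    obtain ⟨h1, h2⟩ := npc_index_card P K hKc
    exact ⟨K, hK, by rw [h1, hfac], h2⟩

/-- A Hall subgroup central in its normaliser has a normal complement. -/
theorem hall_central {G : Type*} [Group G] [Finite G] (H : Subgroup G)
    (hHall : Nat.Coprime (Nat.card H) H.index)
    (h : normalizer (H : Set G) ≤ centralizer (H : Set G)) :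
    ∃ N : Subgroup G, N.Normal ∧ N.IsComplement' H :=
  hall_central_aux (Nat.card G) G le_rfl H hHall h

end Cfsg.Agent.Lead
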