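import Mathlib
import Cfsg.Prelude.Def_JordanBlocks
import Cfsg.Agent.Helper2.JordOrth
import Cfsg.Agent.Helper21.BlockRank

/-! Part P6b of the S2583 sprint: the pair block form. -/

open Matrix

namespace Cfsg.Agent.Lead

/-- rank of the power of the shift of a single Jordan block -/
theorem jo_block_rank {F : Type*} [Field F] (d k : ℕ) :
    ((Cfsg.jordanBlock d F - 1) ^ k).rank = d - k := by
  have h := Cfsg.Agent.Helper2.jordanType_rank (F := F) (fun _ : Fin 1 => d) k
  simp only [Finset.univ_unique, Finset.sum_singleton] at h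
  rw [← h]
  have h1 : Cfsg.jordanTypeMatrix (fun _ : Fin 1 => d) F - 1
      = Matrix.blockDiagonal' (fun _ : Fin 1 => Cfsg.jordanBlock d F - 1) := by
    have h2 := Matrix.blockDiagonal'_sub (fun _ : Fin 1 => Cfsg.jordanBlock d F)
      (fun _ : Fin 1 => (1 : Matrix (Fin d) (Fin d) F))
    have h3 : Matrix.blockDiagonal' (fun _ : Fin 1 => (1 : Matrix (Fin d) (Fin d) F))
        = (1 : Matrix ((_ : Fin 1) × Fin d) ((_ : Fin 1) × Fin d) F) :=
      Matrix.blockDiagonal'_one
    rw [h3] at h2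
    exact h2.symm
  rw [h1, ← Matrix.blockDiagonal'_pow]
  let e : Fin d ≃ ((_ : Fin 1) × Fin d) :=
    { toFun := fun a => ⟨0, a⟩
      invFun := fun x => x.2
      left_inv := fun a => rfl
      right_inv := fun x => by
        obtain ⟨i, a⟩ := x
        have : i = 0 := Subsingleton.elim _ _
        subst this
        rfl }
  have h4 : (Cfsg.jordanBlock d F - 1) ^ k
      = (Matrix.blockDiagonal' (fun _ : Fin 1 => (Cfsg.jordanBlock d F - 1) ^ k)).submatrix e e := by
    ext a b
    simp only [Matrix.submatrix_apply, e, Equiv.coe_fn_mk]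
    rw [Matrix.blockDiagonal'_apply_eq]
  conv_lhs => rw [h4]
  exact Matrix.rank_submatrix _ e e

theorem jo_block_det {F : Type*} [Field F] (d : ℕ) : (Cfsg.jordanBlock d F).det = 1 := by
  rw [Matrix.det_of_isLowerTriangular]
  · apply Finset.prod_eq_one
    intro i _
    simp [Cfsg.jordanBlock]
  · intro i j hij
    have hij' : (i : ℕ) < (j : ℕ) := hij
    have h1 : ¬ (i : ℕ) = (j : ℕ) := by omega
    have h2 : ¬ (i : ℕ) = (j : ℕ) + 1 := by omega
    simp [Cfsg.jordanBlock, h1, h2]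

theorem pair_block_form {F : Type*} [Field F] (d : ℕ) :
    ∃ A M : Matrix (Fin d ⊕ Fin d) (Fin d ⊕ Fin d) F, Mᵀ = M ∧ M.det ≠ 0 ∧ Aᵀ * M * A = M ∧
      ∀ k, ((A - 1) ^ k).rank = (d - k) + (d - k) := by
  classical
  set J : Matrix (Fin d) (Fin d) F := Cfsg.jordanBlock d F with hJ
  have hdet : IsUnit J.det := by rw [hJ, jo_block_det]; exact isUnit_one
  set Ji : Matrix (Fin d) (Fin d) F := J⁻¹ with hJi
  have hJJi : J * Ji = 1 := Matrix.mul_nonsing_inv J hdet
  have hJiJ : Ji * J = 1 := Matrix.nonsing_inv_mul J hdet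
  have hJit : Jᵀ * Jiᵀ = 1 := by rw [← Matrix.transpose_mul, hJiJ, Matrix.transpose_one]
  refine ⟨Matrix.fromBlocks J 0 0 Jiᵀ, Matrix.fromBlocks (0 : Matrix (Fin d) (Fin d) F)
    (1 : Matrix (Fin d) (Fin d) F) (1 : Matrix (Fin d) (Fin d) F)
    (0 : Matrix (Fin d) (Fin d) F), ?_, ?_, ?_, ?_⟩
  · rw [Matrix.fromBlocks_transpose]
    simp
  · have hMM : (Matrix.fromBlocks (0 : Matrix (Fin d) (Fin d) F)
        (1 : Matrix (Fin d) (Fin d) F) (1 : Matrix (Fin d) (Fin d) F)
        (0 : Matrix (Fin d) (Fin d) F))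
        * (Matrix.fromBlocks (0 : Matrix (Fin d) (Fin d) F)
        (1 : Matrix (Fin d) (Fin d) F) (1 : Matrix (Fin d) (Fin d) F)
        (0 : Matrix (Fin d) (Fin d) F)) = 1 := by
      rw [Matrix.fromBlocks_multiply]
      simp [Matrix.fromBlocks_one]
    intro h0
    have := congrArg Matrix.det hMM
    rw [Matrix.det_mul, h0, Matrix.det_one] at this
    simp at this
  · rw [Matrix.fromBlocks_transpose, Matrix.fromBlocks_multiply, Matrix.fromBlocks_multiply]
    simp [hJit, hJiJ]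
  · intro k
    have hA1 : Matrix.fromBlocks J 0 0 Jiᵀ - 1 = Matrix.fromBlocks (J - 1) 0 0 (Jiᵀ - 1) := by
      ext (a | a) (b | b) <;> simp [Matrix.one_apply]
    rw [hA1, Matrix.fromBlocks_diagonal_pow, Cfsg.Agent.Helper21.br21_rank_fromBlocks, hJ, jo_block_rank]
    congr 1
    -- the second block
    have hcomm : Commute (-Ji) (J - 1) := by
      have h1 : Commute Ji J := by
        show Ji * J = J * Ji
        rw [hJiJ, hJJi]
      exact (h1.sub_right (Commute.one_right _)).neg_left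
    have h2 : Ji - 1 = (-Ji) * (J - 1) := by
      rw [neg_mul, mul_sub, hJiJ, mul_one]
      abel
    have h3 : (Jiᵀ - 1) ^ k = (((-Ji) ^ k) * (J - 1) ^ k)ᵀ := by
      rw [← hcomm.mul_pow, ← h2, Matrix.transpose_pow, Matrix.transpose_sub, Matrix.transpose_one]
    rw [h3, Matrix.rank_transpose]
    have hU : IsUnit ((-Ji) ^ k) := by
      have : IsUnit Ji := ⟨⟨Ji, J, hJiJ, hJJi⟩, rfl⟩
      exact (this.neg).pow k
    rw [Matrix.rank_mul_eq_right_of_isUnit_det _ _ ((Matrix.isUnit_iff_isUnit_det _).mp hU)]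
    rw [hJ, jo_block_rank]

end Cfsg.Agent.Lead
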