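import Mathlib
import Cfsg.Prelude.Def_JordanBlocks
import Cfsg.Agent.Lead.JordOrth
import Cfsg.Agent.Helper21.BlockRank

/-! Part R6a of the S2582 sprint: a single even Jordan block preserving an alternating form,
in every characteristic. -/

open Matrix

namespace Cfsg.Agent.Lead

theorem js_shift_apply {F : Type*} [Field F] (n : ℕ) (a b : Fin n) :
    (Cfsg.jordanBlock n F - 1) a b = if (a : ℕ) = (b : ℕ) + 1 then 1 else 0 := by
  simp only [Cfsg.jordanBlock, Matrix.sub_apply, Matrix.of_apply, Matrix.one_apply, Fin.ext_iff]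
  by_cases h1 : (a : ℕ) = b
  · have h2 : ¬ (a : ℕ) = (b : ℕ) + 1 := by omega
    simp [h1]
  · simp [h1]

/-- the antidiagonal permutation matrix -/
def jsR (m : ℕ) (F : Type*) [Field F] : Matrix (Fin m) (Fin m) F :=
  Matrix.of fun a b => if a = Fin.rev b then 1 else 0

theorem jsR_apply {F : Type*} [Field F] (m : ℕ) (a b : Fin m) :
    jsR m F a b = if a = Fin.rev b then 1 else 0 := rfl

theorem jsR_apply' {F : Type*} [Field F] (m : ℕ) (a b : Fin m) :
    jsR m F a b = if b = Fin.rev a then 1 else 0 := by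
  rw [jsR_apply]
  by_cases h : a = Fin.rev b
  · have h' : b = Fin.rev a := by rw [h, Fin.rev_rev]
    rw [if_pos h, if_pos h']
  · have h' : ¬ b = Fin.rev a := fun h'' => h (by rw [h'', Fin.rev_rev])
    rw [if_neg h, if_neg h']

theorem jsR_mul_apply {F : Type*} [Field F] (m : ℕ) (X : Matrix (Fin m) (Fin m) F) (a b : Fin m) :
    (jsR m F * X) a b = X (Fin.rev a) b := by
  rw [Matrix.mul_apply]
  simp [jsR_apply']

theorem mul_jsR_apply {F : Type*} [Field F] (m : ℕ) (X : Matrix (Fin m) (Fin m) F) (a b : Fin m) :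
    (X * jsR m F) a b = X a (Fin.rev b) := by
  rw [Matrix.mul_apply]
  simp [jsR_apply]

theorem jsR_transpose {F : Type*} [Field F] (m : ℕ) : (jsR m F)ᵀ = jsR m F := by
  ext a b
  rw [Matrix.transpose_apply, jsR_apply, jsR_apply']

theorem jsR_sq {F : Type*} [Field F] (m : ℕ) : jsR m F * jsR m F = 1 := by
  ext a b
  rw [jsR_mul_apply, jsR_apply, Matrix.one_apply]
  by_cases h : a = b
  · subst h
    simp
  · have h' : ¬ Fin.rev a = Fin.rev b := fun h'' => h (Fin.rev_injective h'')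
    rw [if_neg h', if_neg h]

theorem jsR_comm {F : Type*} [Field F] (m : ℕ) :
    (Cfsg.jordanBlock m F - 1)ᵀ * jsR m F = jsR m F * (Cfsg.jordanBlock m F - 1) := by
  ext a b
  rw [mul_jsR_apply, jsR_mul_apply, Matrix.transpose_apply, js_shift_apply, js_shift_apply]
  have ha := a.2
  have hb := b.2
  have e : ((Fin.rev b : Fin m) : ℕ) = (a : ℕ) + 1 ↔ ((Fin.rev a : Fin m) : ℕ) = (b : ℕ) + 1 := by
    rw [Fin.val_rev, Fin.val_rev]
    omega
  by_cases h : ((Fin.rev b : Fin m) : ℕ) = (a : ℕ) + 1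
  · rw [if_pos h, if_pos (e.mp h)]
  · rw [if_neg h, if_neg (fun h' => h (e.mpr h'))]

theorem even_block_form_alt {F : Type*} [Field F] (m : ℕ) :
    ∃ A M : Matrix (Fin m ⊕ Fin m) (Fin m ⊕ Fin m) F, (∀ v, v ⬝ᵥ M *ᵥ v = 0) ∧ M.det ≠ 0 ∧
      Aᵀ * M * A = M ∧ ∀ k, ((A - 1) ^ k).rank = 2 * m - k := by
  classical
  set S : Matrix (Fin m) (Fin m) F := Cfsg.jordanBlock m F - 1 with hS
  set R : Matrix (Fin m) (Fin m) F := jsR m F with hR
  have hRt : Rᵀ = R := jsR_transpose m
  have hRR : R * R = 1 := jsR_sq m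
  have hSR : Sᵀ * R = R * S := jsR_comm m
  have hSrank : ∀ k, (S ^ k).rank = m - k := fun k => jo_block_rank m k
  refine ⟨fromBlocks 1 S 1 (1 + S), fromBlocks 0 R (-R) 0, ?_, ?_, ?_, ?_⟩
  · intro v
    obtain ⟨v₁, v₂, rfl⟩ : ∃ v₁ v₂, v = Sum.elim v₁ v₂ :=
      ⟨v ∘ Sum.inl, v ∘ Sum.inr, (Sum.elim_comp_inl_inr v).symm⟩
    rw [Matrix.fromBlocks_mulVec]
    simp only [Sum.elim_comp_inl, Sum.elim_comp_inr, Matrix.zero_mulVec, zero_add, add_zero,
      Matrix.neg_mulVec]
    rw [sumElim_dotProduct_sumElim, dotProduct_neg]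
    have h1 : v₂ ⬝ᵥ R *ᵥ v₁ = v₁ ⬝ᵥ R *ᵥ v₂ := by
      rw [Matrix.dotProduct_mulVec, dotProduct_comm]
      congr 1
      rw [← hRt, Matrix.vecMul_transpose, hRt]
    rw [h1]
    ring
  · have hMM : (fromBlocks 0 R (-R) 0 : Matrix (Fin m ⊕ Fin m) (Fin m ⊕ Fin m) F)
        * fromBlocks 0 (-R) R 0 = 1 := by
      rw [Matrix.fromBlocks_multiply]
      simp [hRR, Matrix.fromBlocks_one]
    intro h0
    have := congrArg Matrix.det hMM
    rw [Matrix.det_mul, h0, Matrix.det_one, zero_mul] at this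
    exact zero_ne_one this
  · have hAt : (fromBlocks 1 S 1 (1 + S) : Matrix (Fin m ⊕ Fin m) (Fin m ⊕ Fin m) F)ᵀ
        = fromBlocks 1 1 Sᵀ (1 + Sᵀ) := by
      rw [Matrix.fromBlocks_transpose]
      simp
    have e11 : (1 * 0 + 1 * (-R)) * 1 + (1 * R + 1 * 0) * 1 = (0 : Matrix (Fin m) (Fin m) F) := by
      simp
    have e12 : (1 * 0 + 1 * (-R)) * S + (1 * R + 1 * 0) * (1 + S) = R := by
      simp only [one_mul, mul_zero, zero_add, add_zero]
      noncomm_ring
    have e21 : (Sᵀ * 0 + (1 + Sᵀ) * (-R)) * 1 + (Sᵀ * R + (1 + Sᵀ) * 0) * 1 = -R := by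
      simp only [mul_zero, zero_add, add_zero, mul_one]
      noncomm_ring
    have e22 : (Sᵀ * 0 + (1 + Sᵀ) * (-R)) * S + (Sᵀ * R + (1 + Sᵀ) * 0) * (1 + S)
        = (0 : Matrix (Fin m) (Fin m) F) := by
      simp only [mul_zero, zero_add, add_zero]
      have : (1 + Sᵀ) * (-R) * S + Sᵀ * R * (1 + S) = -(R * S) + Sᵀ * R + (-(Sᵀ * R * S) + Sᵀ * R * S) := by
        noncomm_ring
      rw [this, hSR]
      noncomm_ring
    rw [hAt, Matrix.fromBlocks_multiply, Matrix.fromBlocks_multiply, e11, e12, e21, e22]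
  · intro k
    set A : Matrix (Fin m ⊕ Fin m) (Fin m ⊕ Fin m) F := fromBlocks 1 S 1 (1 + S) with hA
    set N : Matrix (Fin m ⊕ Fin m) (Fin m ⊕ Fin m) F := fromBlocks 0 S 1 S with hN
    set Sg : Matrix (Fin m ⊕ Fin m) (Fin m ⊕ Fin m) F := fromBlocks S 0 0 S with hSg
    have hAN : A - 1 = N := by
      rw [hA, hN]
      ext (a | a) (b | b) <;> simp [Matrix.one_apply]
    have hA' : A = N + 1 := by rw [← hAN]; abel
    have hNN : N * N = Sg * A := by
      rw [hN, hSg, hA, Matrix.fromBlocks_multiply, Matrix.fromBlocks_multiply]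
      congr 1 <;> noncomm_ring
    have hSgN : Commute Sg N := by
      show Sg * N = N * Sg
      rw [hN, hSg, Matrix.fromBlocks_multiply, Matrix.fromBlocks_multiply]
      congr 1 <;> noncomm_ring
    have hSgA : Commute Sg A := by
      rw [hA']
      exact hSgN.add_right (Commute.one_right _)
    have hdetA : IsUnit A.det := by
      rw [hA, Matrix.det_fromBlocks_one₁₁]
      simp
    have hSgpow : ∀ i, Sg ^ i = fromBlocks (S ^ i) 0 0 (S ^ i) := fun i => by
      rw [hSg, Matrix.fromBlocks_diagonal_pow]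
    have hAi : ∀ i, IsUnit (A ^ i).det := fun i => by
      rw [Matrix.det_pow]
      exact hdetA.pow i
    rw [hAN]
    obtain ⟨i, rfl | rfl⟩ := Nat.even_or_odd' k
    · have h1 : N ^ (2 * i) = Sg ^ i * A ^ i := by
        rw [pow_mul, pow_two, hNN, hSgA.mul_pow]
      rw [h1, Matrix.rank_mul_eq_left_of_isUnit_det _ _ (hAi i), hSgpow,
        Cfsg.Agent.Helper21.br21_rank_fromBlocks, hSrank]
      omega
    · have h1 : N ^ (2 * i + 1) = (N * Sg ^ i) * A ^ i := by
        rw [pow_succ', pow_mul, pow_two, hNN, hSgA.mul_pow, mul_assoc]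
      have h2 : N * Sg ^ i = fromBlocks (S ^ (i + 1)) 0 0 (S ^ i)
          * (fromBlocks 0 1 1 0 * fromBlocks 1 S 0 1) := by
        rw [hSgpow, hN, Matrix.fromBlocks_multiply, Matrix.fromBlocks_multiply,
          Matrix.fromBlocks_multiply]
        congr 1 <;> simp [pow_succ] <;> exact ((Commute.refl S).pow_right i).eq
      have hU : IsUnit ((fromBlocks 0 1 1 0 : Matrix (Fin m ⊕ Fin m) (Fin m ⊕ Fin m) F)
          * fromBlocks 1 S 0 1).det := by
        rw [Matrix.det_mul]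
        apply IsUnit.mul
        · have hPP : (fromBlocks 0 1 1 0 : Matrix (Fin m ⊕ Fin m) (Fin m ⊕ Fin m) F)
              * fromBlocks 0 1 1 0 = 1 := by
            rw [Matrix.fromBlocks_multiply]
            simp [Matrix.fromBlocks_one]
          have := congrArg Matrix.det hPP
          rw [Matrix.det_mul, Matrix.det_one] at this
          exact IsUnit.of_mul_eq_one _ this
        · rw [Matrix.det_fromBlocks_zero₂₁]
          simp
      rw [h1, Matrix.rank_mul_eq_left_of_isUnit_det _ _ (hAi i), h2,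
        Matrix.rank_mul_eq_left_of_isUnit_det _ _ hU,
        Cfsg.Agent.Helper21.br21_rank_fromBlocks, hSrank, hSrank]
      omega

end Cfsg.Agent.Lead
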