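import Cfsg.Agent.Lead.FusionNPC
import Cfsg.Agent.Helper24.Class2

set_option autoImplicit false
open Pointwise

namespace Cfsg.Agent.Lead

open Subgroup
open scoped commutatorElement

/-- If Frobenius' hypothesis fails, there is a `p`-subgroup `X ≤ P` of exponent `p` (or dividing
`4` when `p = 2`) and a `p'`-element normalising but not centralising `X`. -/
theorem exists_small_exponent_pair {G : Type*} [Group G] [Finite G] {p : ℕ} [hp : Fact p.Prime]
    (P : Sylow p G) (hF : ¬ FrobHyp p G) :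
    ∃ (X : Subgroup G) (g : G), X ≤ (P : Subgroup G) ∧ g ∈ normalizer (X : Set G) ∧
      (orderOf g).Coprime p ∧ g ∉ centralizer (X : Set G) ∧
      ∀ x ∈ X, x ^ p = 1 ∨ (p = 2 ∧ x ^ 4 = 1) := by
  classical
  have hbad : ∃ n : ℕ, ∃ (X : Subgroup G) (g : G), X ≤ (P : Subgroup G) ∧
      g ∈ normalizer (X : Set G) ∧ (orderOf g).Coprime p ∧ g ∉ centralizer (X : Set G) ∧
      Nat.card X = n := by
    by_contra hcon
    apply hF
    apply frobHyp_of_sylow P
    intro Q hQ g hg hcop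
    by_contra hgc
    exact hcon ⟨_, Q, g, hQ, hg, hcop, hgc, rfl⟩
  obtain ⟨X, g, hXP, hgN, hcop, hgC, hXn⟩ := Nat.find_spec hbad
  have hmin : ∀ (Y : Subgroup G), Y ≤ X → Y ≠ X → g ∈ normalizer (Y : Set G) →
      g ∈ centralizer (Y : Set G) := by
    intro Y hYX hne hgY
    by_contra hgc
    have hlt : Nat.card Y < Nat.card X :=
      lt_of_le_of_ne (Subgroup.card_le_of_le hYX)
        (fun e => hne (Subgroup.eq_of_le_of_card_ge hYX e.ge))
    have := Nat.find_min' hbad ⟨Y, g, hYX.trans hXP, hgY, hcop, hgc, rfl⟩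
    omega
  refine ⟨X, g, hXP, hgN, hcop, hgC, ?_⟩
  have hgX : ∀ x ∈ X, g * x * g⁻¹ ∈ X := fun x hx => (mem_normalizer_iff.mp hgN x).mp hx
  have hXp : IsPGroup p X := P.2.to_le hXP
  have hpow : ∀ x ∈ X, ∃ e : ℕ, x ^ p ^ e = 1 := by
    intro x hx
    obtain ⟨e, he⟩ := hXp ⟨x, hx⟩
    exact ⟨e, by simpa using congrArg Subtype.val he⟩
  have hS : ∀ Y : Subgroup G, Y ≤ X → g ∈ normalizer (Y : Set G) →
      (∀ x ∈ X, x⁻¹ * (g * x * g⁻¹) ∈ Y) → Y = X := by
    intro Y hYX hgY hY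
    by_contra hne
    have hgcY := hmin Y hYX hne hgY
    apply hgC
    rw [mem_centralizer_iff]
    intro x hx
    have hz := hY x hx
    have hzfix : g * (x⁻¹ * (g * x * g⁻¹)) * g⁻¹ = x⁻¹ * (g * x * g⁻¹) := by
      have := mem_centralizer_iff.mp hgcY _ hz
      rw [← this, mul_inv_cancel_right]
    obtain ⟨e, he⟩ := hpow _ (hYX hz)
    have hfix := conj_eq_of_stabilizes g x hcop e he hzfix
    calc x * g = (g * x * g⁻¹) * g := by rw [hfix]
      _ = g * x := by group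
  have hXne : X ≠ ⊥ := by
    rintro rfl
    apply hgC
    rw [mem_centralizer_iff]
    intro x hx
    rw [Subgroup.mem_bot.mp hx, one_mul, mul_one]
  -- the Frattini-type subgroup
  obtain ⟨S, hSdef⟩ : ∃ S : Set G, S = {z | ∃ x ∈ X, z = x ^ p} ∪
      {z | ∃ x ∈ X, ∃ y ∈ X, z = ⁅x, y⁆} := ⟨_, rfl⟩
  have hSX : S ⊆ (X : Set G) := by
    rw [hSdef]
    rintro z (⟨x, hx, rfl⟩ | ⟨x, hx, y, hy, rfl⟩)
    · exact pow_mem hx p
    · exact mul_mem (mul_mem (mul_mem hx hy) (inv_mem hx)) (inv_mem hy)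
  have hFX : closure S ≤ X := (Subgroup.closure_le X).mpr hSX
  have hnorm : ∀ t : G, (∀ x ∈ X, t * x * t⁻¹ ∈ X) → t ∈ normalizer ((closure S : Subgroup G) : Set G) := by
    intro t ht
    apply normalizer_le_normalizer_closure S
    apply mem_normalizer_fintype
    rw [hSdef]
    rintro z (⟨x, hx, rfl⟩ | ⟨x, hx, y, hy, rfl⟩)
    · exact Or.inl ⟨t * x * t⁻¹, ht x hx, conj_pow.symm⟩
    · exact Or.inr ⟨t * x * t⁻¹, ht x hx, t * y * t⁻¹, ht y hy, conjugate_commutatorElement _ _ _⟩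
  have hFne : closure S ≠ X := by
    have : Nontrivial X := (Subgroup.nontrivial_iff_ne_bot _).mpr hXne
    obtain ⟨M, hM⟩ : ∃ M : Subgroup X, IsCoatom M := by
      rcases eq_top_or_exists_le_coatom (⊥ : Subgroup X) with h | ⟨M, hM, -⟩
      · exact absurd h bot_ne_top
      · exact ⟨M, hM⟩
    have hle : closure S ≤ M.map X.subtype := by
      rw [Subgroup.closure_le, hSdef]
      rintro z (⟨x, hx, rfl⟩ | ⟨x, hx, y, hy, rfl⟩)
      · exact ⟨⟨x, hx⟩ ^ p, pow_mem_coatom hXp M hM ⟨x, hx⟩, by simp⟩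
      · refine ⟨⁅(⟨x, hx⟩ : X), ⟨y, hy⟩⁆, commutator_le_coatom hXp M hM ?_, by simp [commutatorElement_def]⟩
        exact Subgroup.commutator_mem_commutator (Subgroup.mem_top _) (Subgroup.mem_top _)
    intro hFX'
    rw [hFX'] at hle
    apply hM.1
    rw [eq_top_iff]
    intro y _
    obtain ⟨m, hm, hmy⟩ := hle y.2
    have : m = y := Subtype.ext hmy
    exact this ▸ hm
  have hgF := hmin (closure S) hFX hFne (hnorm g hgX)
  have hgFfix : ∀ f ∈ closure S, g * f * g⁻¹ = f := by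
    intro f hf
    have := mem_centralizer_iff.mp hgF f hf
    rw [← this, mul_inv_cancel_right]
  -- `X` centralises `F`
  have hC1 : X ⊓ centralizer ((closure S : Subgroup G) : Set G) = X := by
    apply hS _ inf_le_left
    · apply mem_normalizer_fintype
      intro y hy
      obtain ⟨hyX, hyC⟩ := Subgroup.mem_inf.mp hy
      refine Subgroup.mem_inf.mpr ⟨hgX y hyX, ?_⟩
      rw [mem_centralizer_iff]
      intro f hf
      have hf' := hgFfix f hf
      have hyf := mem_centralizer_iff.mp hyC f hf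
      calc f * (g * y * g⁻¹) = (g * f * g⁻¹) * (g * y * g⁻¹) := by rw [hf']
        _ = g * (f * y) * g⁻¹ := by group
        _ = g * (y * f) * g⁻¹ := by rw [hyf]
        _ = (g * y * g⁻¹) * (g * f * g⁻¹) := by group
        _ = (g * y * g⁻¹) * f := by rw [hf']
    · intro x hx
      refine Subgroup.mem_inf.mpr ⟨mul_mem (inv_mem hx) (hgX x hx), ?_⟩
      rw [mem_centralizer_iff]
      intro f hf
      have h1 : g⁻¹ * f * g = f := by
        calc g⁻¹ * f * g = g⁻¹ * (g * f * g⁻¹) * g := by rw [hgFfix f hf]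
          _ = f := by group
      have hxF : x * f * x⁻¹ ∈ closure S := by
        have hxN := hnorm x (fun y hy => mul_mem (mul_mem hx hy) (inv_mem hx))
        exact (mem_normalizer_iff.mp hxN f).mp hf
      have h2 := hgFfix _ hxF
      symm
      calc x⁻¹ * (g * x * g⁻¹) * f
          = x⁻¹ * (g * (x * (g⁻¹ * f * g) * x⁻¹) * g⁻¹) * x * (x⁻¹ * (g * x * g⁻¹)) := by group
        _ = x⁻¹ * (g * (x * f * x⁻¹) * g⁻¹) * x * (x⁻¹ * (g * x * g⁻¹)) := by rw [h1]
        _ = x⁻¹ * (x * f * x⁻¹) * x * (x⁻¹ * (g * x * g⁻¹)) := by rw [h2]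
        _ = f * (x⁻¹ * (g * x * g⁻¹)) := by group
  have hXF : ∀ x ∈ X, ∀ f ∈ closure S, f * x = x * f := by
    intro x hx f hf
    have hx' : x ∈ X ⊓ centralizer ((closure S : Subgroup G) : Set G) := by rw [hC1]; exact hx
    exact mem_centralizer_iff.mp (Subgroup.mem_inf.mp hx').2 f hf
  have hpF : ∀ x ∈ X, x ^ p ∈ closure S := fun x hx =>
    Subgroup.subset_closure (by rw [hSdef]; exact Or.inl ⟨x, hx, rfl⟩)
  have hcF : ∀ x ∈ X, ∀ y ∈ X, ⁅x, y⁆ ∈ closure S := fun x hx y hy =>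
    Subgroup.subset_closure (by rw [hSdef]; exact Or.inr ⟨x, hx, y, hy, rfl⟩)
  -- the exponent
  obtain ⟨e, hde, heF, hesmall⟩ : ∃ e : ℕ, p ∣ e.choose 2 ∧ (∀ x ∈ X, x ^ e ∈ closure S) ∧
      (∀ x : G, x ^ e = 1 → x ^ p = 1 ∨ (p = 2 ∧ x ^ 4 = 1)) := by
    by_cases hp2 : p = 2
    · refine ⟨4, ?_, ?_, fun x hx => Or.inr ⟨hp2, hx⟩⟩
      · rw [hp2]; decide
      · intro x hx
        have h1 := hpF x hx
        rw [hp2] at h1
        have h2 : x ^ 4 = (x ^ 2) ^ 2 := by rw [← pow_mul]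
        rw [h2]; exact pow_mem h1 2
    · refine ⟨p, ?_, hpF, fun x hx => Or.inl hx⟩
      have h3 : 2 < p := lt_of_le_of_ne hp.1.two_le (Ne.symm hp2)
      exact hp.1.dvd_choose_self (by norm_num) h3
  have hemul : ∀ x ∈ X, ∀ y ∈ X, (x * y) ^ e = x ^ e * y ^ e := by
    intro x hx y hy
    have hc := hcF y hy x hx
    have hcx : Commute ⁅y, x⁆ x := hXF x hx _ hc
    have hcy : Commute ⁅y, x⁆ y := hXF y hy _ hc
    have hcp : ⁅y, x⁆ ^ p = 1 := by
      rw [← Cfsg.Agent.Helper24.commutator_pow_left y x hcy p, commutatorElement_eq_one_iff_commute]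
      exact hXF x hx _ (hpF y hy)
    rw [Cfsg.Agent.Helper24.mul_pow_of_commutator_central x y hcx hcy e]
    obtain ⟨m, hm⟩ := hde
    rw [hm, pow_mul, hcp, one_pow, mul_one]
  obtain ⟨A, hAdef⟩ : ∃ A : Subgroup G, ∀ x, x ∈ A ↔ x ∈ X ∧ x ^ e = 1 :=
    ⟨{ carrier := {x | x ∈ X ∧ x ^ e = 1}
       one_mem' := ⟨one_mem X, one_pow e⟩
       mul_mem' := by
         rintro a b ⟨ha, hae⟩ ⟨hb, hbe⟩
         exact ⟨mul_mem ha hb, by rw [hemul a ha b hb, hae, hbe, one_mul]⟩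
       inv_mem' := by
         rintro a ⟨ha, hae⟩
         exact ⟨inv_mem ha, by rw [inv_pow, hae, inv_one]⟩ }, fun x => Iff.rfl⟩
  have hAX : A = X := by
    apply hS A (fun x hx => ((hAdef x).mp hx).1)
    · apply mem_normalizer_fintype
      intro x hx
      rw [SetLike.mem_coe, hAdef] at hx ⊢
      exact ⟨hgX x hx.1, by rw [conj_pow, hx.2]; group⟩
    · intro x hx
      rw [hAdef]
      refine ⟨mul_mem (inv_mem hx) (hgX x hx), ?_⟩
      rw [hemul _ (inv_mem hx) _ (hgX x hx), conj_pow, hgFfix _ (heF x hx), inv_pow,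
        inv_mul_cancel]
  intro x hx
  have hxA : x ∈ A := by rw [hAX]; exact hx
  exact hesmall x ((hAdef x).mp hxA).2

end Cfsg.Agent.Lead
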