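import Mathlib

set_option autoImplicit false

namespace Cfsg.Agent.Lead

open Subgroup

/-- Gluing normal `p`-complements for all primes dividing `|H|` into a normal complement of `H`. -/
theorem exists_normal_complement_of_local {G : Type*} [Group G] [Finite G] (H : Subgroup G)
    (key : ∀ p : ℕ, p.Prime → p ∣ Nat.card H → ∃ K : Subgroup G, K.Normal ∧
      K.index = p ^ (Nat.card H).factorization p ∧ (Nat.card K).Coprime p) :
    ∃ N : Subgroup G, N.Normal ∧ Subgroup.IsComplement' N H := by
  classical
  choose! f hf using key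
  have hnormal : ∀ s : Finset ℕ, (∀ q ∈ s, q.Prime ∧ q ∣ Nat.card H) → (s.inf f).Normal := by
    intro s
    induction s using Finset.induction_on with
    | empty => intro _; rw [Finset.inf_empty]; infer_instance
    | insert a s has ih =>
      intro hs
      rw [Finset.inf_insert]
      have h1 : (f a).Normal := (hf a (hs a (Finset.mem_insert_self a s)).1
        (hs a (Finset.mem_insert_self a s)).2).1
      have h2 : (s.inf f).Normal := ih (fun q hq => hs q (Finset.mem_insert_of_mem hq))
      infer_instance
  have hidx : ∀ s : Finset ℕ, (∀ q ∈ s, q.Prime ∧ q ∣ Nat.card H) →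
      (s.inf f).index ≤ ∏ q ∈ s, q ^ (Nat.card H).factorization q := by
    intro s
    induction s using Finset.induction_on with
    | empty => intro _; simp
    | insert a s has ih =>
      intro hs
      rw [Finset.inf_insert, Finset.prod_insert has]
      calc (f a ⊓ s.inf f).index ≤ (f a).index * (s.inf f).index := Subgroup.index_inf_le
        _ ≤ _ := by
          rw [(hf a (hs a (Finset.mem_insert_self a s)).1
            (hs a (Finset.mem_insert_self a s)).2).2.1]
          exact Nat.mul_le_mul_left _ (ih (fun q hq => hs q (Finset.mem_insert_of_mem hq)))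
  have hall : ∀ q ∈ (Nat.card H).primeFactors, q.Prime ∧ q ∣ Nat.card H := fun q hq =>
    ⟨Nat.prime_of_mem_primeFactors hq, Nat.dvd_of_mem_primeFactors hq⟩
  obtain ⟨N, hN⟩ : ∃ N, N = (Nat.card H).primeFactors.inf f := ⟨_, rfl⟩
  have hNn : N.Normal := by rw [hN]; exact hnormal _ hall
  have hNidx : N.index ≤ Nat.card H := by
    have h1 := hidx (Nat.card H).primeFactors hall
    have h2 := Nat.prod_factorization_pow_eq_self (Nat.card_pos (α := H)).ne'
    rw [Nat.prod_factorization_eq_prod_primeFactors] at h2
    rw [h2] at h1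
    rw [hN]; exact h1
  have hNH : N ⊓ H = ⊥ := by
    rw [← Subgroup.card_eq_one]
    by_contra hne
    obtain ⟨r, hr, hrd⟩ := Nat.exists_prime_and_dvd hne
    have hrH : r ∣ Nat.card H := hrd.trans (Subgroup.card_dvd_of_le inf_le_right)
    have hrP : r ∈ (Nat.card H).primeFactors :=
      Nat.mem_primeFactors.mpr ⟨hr, hrH, Nat.card_pos.ne'⟩
    have hle : N ⊓ H ≤ f r := by
      rw [hN]; exact inf_le_left.trans (Finset.inf_le hrP)
    have hr2 : r ∣ Nat.card ↥(f r) := hrd.trans (Subgroup.card_dvd_of_le hle)
    exact (Nat.Prime.coprime_iff_not_dvd hr).mp (hf r hr hrH).2.2.symm hr2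
  refine ⟨N, hNn, Subgroup.isComplement'_of_card_mul_and_disjoint ?_ (disjoint_iff.mpr hNH)⟩
  apply le_antisymm
  · have hinj := Subgroup.mul_injective_of_disjoint (disjoint_iff.mpr hNH)
    have h1 := Nat.card_le_card_of_injective _ hinj
    rwa [Nat.card_prod] at h1
  · calc Nat.card G = Nat.card N * N.index := (Subgroup.card_mul_index N).symm
      _ ≤ Nat.card N * Nat.card H := Nat.mul_le_mul_left _ hNidx

/-- If `M K = G` with `K` normal then `[G : M]` divides `|K|`. -/
theorem index_dvd_card_of_sup_eq_top {G : Type*} [Group G] [Finite G] (M K : Subgroup G)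
    [K.Normal] (h : M ⊔ K = ⊤) : M.index ∣ Nat.card K := by
  have h1 : K.relIndex M = K.index := by
    rw [← Subgroup.relIndex_sup_right (H := M) (K := K), h, Subgroup.relIndex_top_right]
  have h2 : M.index * Nat.card M = Nat.card G := Subgroup.index_mul_card M
  have h3 : K.index * Nat.card K = Nat.card G := Subgroup.index_mul_card K
  have h4 : (K.subgroupOf M).index * Nat.card (K.subgroupOf M) = Nat.card M :=
    Subgroup.index_mul_card _
  have h5 : (K.subgroupOf M).index = K.index := h1
  refine ⟨Nat.card (K.subgroupOf M), ?_⟩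
  have hpos : 0 < K.index := Nat.pos_of_ne_zero Subgroup.index_ne_zero_of_finite
  apply Nat.eq_of_mul_eq_mul_left hpos
  rw [h3, ← h2, ← h4, h5]; ring

/-- A Sylow `q`-subgroup lies in every normal subgroup of index prime to `q`. -/
theorem sylow_le_of_coprime_index {G : Type*} [Group G] [Finite G] {q : ℕ} [Fact q.Prime]
    (K : Subgroup G) [K.Normal] (hq : (K.index).Coprime q) (Q : Sylow q G) :
    (Q : Subgroup G) ≤ K := by
  intro x hx
  obtain ⟨j, hj⟩ := Q.2 ⟨x, hx⟩
  have hj' : x ^ q ^ j = 1 := by
    have h2 := congrArg Subtype.val hj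
    rwa [Subgroup.coe_pow, Subgroup.coe_one] at h2
  have hox : orderOf x ∣ q ^ j := orderOf_dvd_of_pow_eq_one hj'
  have hcop : (K.index).Coprime (orderOf x) :=
    Nat.Coprime.coprime_dvd_right hox (Nat.Coprime.pow_right j hq)
  obtain ⟨m, hm⟩ := exists_pow_eq_self_of_coprime hcop
  rw [← hm]
  exact K.pow_mem (K.pow_index_mem x) m

end Cfsg.Agent.Lead
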