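import Cfsg.Agent.Lead.Frobenius
import Mathlib.GroupTheory.Perm.Cycle.Type

set_option autoImplicit false
open Pointwise

namespace Cfsg.Agent.Lead

open Subgroup

/-- An element outside a subgroup has a power of prime-power order outside it. -/
theorem exists_prime_pow_not_mem {G : Type*} [Group G] [Finite G] (C : Subgroup G) (b : G)
    (hb : b ∉ C) :
    ∃ (q : ℕ) (z : G) (k : ℕ), q.Prime ∧ z ∈ zpowers b ∧ z ^ q ^ k = 1 ∧ z ∉ C := by
  classical
  have hex : ∃ n, ∃ b' ∈ zpowers b, b' ∉ C ∧ orderOf b' = n := ⟨_, b, mem_zpowers b, hb, rfl⟩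
  obtain ⟨b', hb'z, hb'C, hb'n⟩ := Nat.find_spec hex
  have hmin : ∀ c ∈ zpowers b, c ∉ C → orderOf b' ≤ orderOf c := by
    intro c hc hcC
    rw [hb'n]
    exact Nat.find_min' hex ⟨c, hc, hcC, rfl⟩
  have hb'1 : orderOf b' ≠ 1 := by
    intro h
    rw [orderOf_eq_one_iff] at h
    exact hb'C (h ▸ one_mem C)
  obtain ⟨q, hq, hqd⟩ := Nat.exists_prime_and_dvd hb'1
  have : Fact q.Prime := ⟨hq⟩
  obtain ⟨z, a, k, hz, ha, hza, hzk, hacop⟩ := exists_p_decomp q b'
  have hzb : z ∈ zpowers b := (zpowers_le.mpr hb'z) hz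
  have hab : a ∈ zpowers b := (zpowers_le.mpr hb'z) ha
  refine ⟨q, z, k, hq, hzb, hzk, ?_⟩
  intro hzC
  have haC : a ∈ C := by
    by_contra haC
    have h1 := hmin a hab haC
    have h2 : orderOf a ∣ orderOf b' := orderOf_dvd_of_mem_zpowers ha
    have h3 : orderOf a = orderOf b' :=
      le_antisymm (Nat.le_of_dvd (orderOf_pos b') h2) h1
    have h4 : q ∣ orderOf a := h3 ▸ hqd
    exact hq.one_lt.ne' (Nat.Coprime.eq_one_of_dvd hacop.symm h4)
  exact hb'C (hza ▸ mul_mem hzC haC)

/-- Fixed points of a `q`-element acting by conjugation on a subgroup it normalises. -/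
theorem exists_fixed_subgroup_modEq {G : Type*} [Group G] [Finite G] {q : ℕ} [Fact q.Prime]
    (T : Subgroup G) (c : G) (k : ℕ) (hck : c ^ q ^ k = 1) (hc : c ∈ normalizer (T : Set G)) :
    ∃ D : Subgroup T, (∀ t : T, t ∈ D ↔ c * (t : G) = t * c) ∧
      Nat.card T ≡ Nat.card D [MOD q] := by
  classical
  let D : Subgroup T :=
    { carrier := {t | c * (t : G) = t * c}
      one_mem' := by simp
      mul_mem' := by
        intro a b ha hb
        simp only [Set.mem_ofPred_eq, Subgroup.coe_mul] at ha hb ⊢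
        rw [← mul_assoc, ha, mul_assoc, hb, mul_assoc]
      inv_mem' := by
        intro a ha
        simp only [Set.mem_ofPred_eq, Subgroup.coe_inv] at ha ⊢
        calc c * (a : G)⁻¹ = (a : G)⁻¹ * ((a : G) * c) * (a : G)⁻¹ := by group
          _ = (a : G)⁻¹ * (c * (a : G)) * (a : G)⁻¹ := by rw [ha]
          _ = (a : G)⁻¹ * c := by group }
  refine ⟨D, fun t => Iff.rfl, ?_⟩
  let f : Function.End T := fun t => ⟨c * t * c⁻¹, (mem_normalizer_iff.mp hc t).mp t.2⟩
  have hf : ∀ (n : ℕ) (t : T), (((f ^ n) t : T) : G) = c ^ n * t * (c ^ n)⁻¹ := by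
    intro n
    induction n with
    | zero =>
      intro t
      rw [pow_zero, pow_zero]
      show ((t : T) : G) = 1 * t * 1⁻¹
      simp
    | succ n ih =>
      intro t
      rw [pow_succ]
      show (((f ^ n) (f t) : T) : G) = _
      rw [ih (f t)]
      show c ^ n * (c * t * c⁻¹) * (c ^ n)⁻¹ = _
      rw [pow_succ]; group
  have hfq : f ^ q ^ k = 1 := by
    funext t
    apply Subtype.ext
    rw [hf, hck]
    show 1 * (t : G) * 1⁻¹ = ((t : T) : G)
    simp
  have : Fintype T := Fintype.ofFinite T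
  have h1 := Equiv.Perm.card_fixedPoints_modEq (f := f) hfq
  have h2 : Fintype.card (Function.fixedPoints f) = Nat.card D := by
    rw [← Nat.card_eq_fintype_card]
    apply Nat.card_congr
    apply Equiv.subtypeEquivRight
    intro t
    show f t = t ↔ c * (t : G) = t * c
    constructor
    · intro h
      have := congrArg Subtype.val h
      have h3 : c * (t : G) * c⁻¹ = t := this
      calc c * (t : G) = (c * (t : G) * c⁻¹) * c := by group
        _ = t * c := by rw [h3]
    · intro h
      apply Subtype.ext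
      show c * (t : G) * c⁻¹ = t
      rw [h, mul_inv_cancel_right]
  rw [h2, ← Nat.card_eq_fintype_card] at h1
  exact h1

/-- If the normaliser of a commutative Sylow `p`-subgroup `T` does not centralise it, then some
element of prime-power order `q ^ k`, `q ≠ p`, acts on `T` with proper fixed subgroup `D`,
and `|T| ≡ |D|` modulo `q`. -/
theorem exists_prime_action_of_not_le {G : Type*} [Group G] [Finite G] {p : ℕ} [Fact p.Prime]
    (T : Sylow p G)
    (hcomm : ∀ x ∈ (T : Subgroup G), ∀ y ∈ (T : Subgroup G), x * y = y * x)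
    (h : ¬ normalizer ((T : Subgroup G) : Set G) ≤ centralizer ((T : Subgroup G) : Set G)) :
    ∃ (q : ℕ) (D : Subgroup (T : Subgroup G)), q.Prime ∧ q ≠ p ∧ q ∣ Nat.card G ∧ D ≠ ⊤ ∧
      Nat.card (T : Subgroup G) ≡ Nat.card D [MOD q] := by
  obtain ⟨b, hbN, hbC⟩ := SetLike.not_le_iff_exists.mp h
  obtain ⟨q, z, k, hq, hzb, hzk, hzC⟩ :=
    exists_prime_pow_not_mem (centralizer ((T : Subgroup G) : Set G)) b hbC
  have hzN : z ∈ normalizer ((T : Subgroup G) : Set G) := (zpowers_le.mpr hbN) hzb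
  have : Fact q.Prime := ⟨hq⟩
  have hqp : q ≠ p := by
    rintro rfl
    have hzT : z ∈ (T : Subgroup G) := mem_sylow_of_mem_normalizer T z k hzk hzN
    apply hzC
    rw [mem_centralizer_iff]
    intro t ht
    exact hcomm t ht z hzT
  have hqd : q ∣ Nat.card G := by
    have h1 : orderOf z ∣ q ^ k := orderOf_dvd_of_pow_eq_one hzk
    obtain ⟨j, -, hj⟩ := (Nat.dvd_prime_pow hq).mp h1
    have hj0 : j ≠ 0 := by
      rintro rfl
      rw [pow_zero, orderOf_eq_one_iff] at hj
      exact hzC (hj ▸ one_mem _)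
    have h2 : q ∣ orderOf z := hj ▸ dvd_pow_self q hj0
    exact h2.trans (orderOf_dvd_natCard z)
  obtain ⟨D, hD, hmod⟩ := exists_fixed_subgroup_modEq (T : Subgroup G) z k hzk hzN
  refine ⟨q, D, hq, hqp, hqd, ?_, hmod⟩
  intro hDtop
  apply hzC
  rw [mem_centralizer_iff]
  intro t ht
  have : (⟨t, ht⟩ : (T : Subgroup G)) ∈ D := hDtop ▸ Subgroup.mem_top _
  exact ((hD _).mp this).symm

/-- Two involutions whose product is an involution commute. -/
theorem comm_of_sq_eq_one {G : Type*} [Group G] (x y : G) (hx : x * x = 1) (hy : y * y = 1)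
    (hxy : (x * y) * (x * y) = 1) : x * y = y * x := by
  calc x * y = x * ((x * y) * (x * y)) * y := by rw [hxy, mul_one]
    _ = (x * x) * (y * x) * (y * y) := by group
    _ = y * x := by rw [hx, hy, one_mul, mul_one]

end Cfsg.Agent.Lead
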