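import Mathlib.GroupTheory.Transfer
import Mathlib.GroupTheory.PGroup
import Mathlib.GroupTheory.Sylow

set_option autoImplicit false

namespace Cfsg.Agent.Lead

open Subgroup

/-- Extremal form of the Thompson transfer lemma for a central involution of a Sylow `2`-subgroup
that is centralised by the normaliser of the Sylow subgroup: it lies outside a normal subgroup of
index `2` as soon as it lies outside a subgroup of index `2` of the Sylow subgroup. -/
theorem transfer_involution_parity {G : Type*} [Group G] [Finite G] (S : Sylow 2 G)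
    (Q : Subgroup G) (hQi : Q.relIndex (S : Subgroup G) = 2) (z : G)
    (hz2 : z ^ 2 = 1) (hzS : z ∈ (S : Subgroup G))
    (hzc : ∀ s ∈ (S : Subgroup G), s * z = z * s) (hzQ : z ∉ Q)
    (hN : ∀ g ∈ normalizer ((S : Subgroup G) : Set G), g * z * g⁻¹ = z) :
    ∃ K : Subgroup G, K.Normal ∧ K.index = 2 ∧ z ∉ K := by
  classical
  have hidx : (Q.subgroupOf (S : Subgroup G)).index = 2 := hQi
  let ϕ : (S : Subgroup G) →* ℤˣ :=
    { toFun := fun x => if (x : G) ∈ Q then 1 else -1
      map_one' := by simp [Q.one_mem]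
      map_mul' := by
        intro x y
        have h := Subgroup.mul_mem_iff_of_index_two hidx (a := x) (b := y)
        simp only [Subgroup.mem_subgroupOf, Subgroup.coe_mul] at h
        by_cases hx : (x : G) ∈ Q <;> by_cases hy : (y : G) ∈ Q <;> simp [hx, hy, h] }
  have hϕ : ∀ (n : ℕ) (a : G) (hmem : a⁻¹ * z ^ n * a ∈ (S : Subgroup G)),
      ϕ ⟨a⁻¹ * z ^ n * a, hmem⟩ = if a⁻¹ * z ^ n * a ∈ Q then 1 else -1 := fun n a hmem => rfl
  have hconj : ∀ s y : ↥(S : Subgroup G), ϕ (s⁻¹ * y * s) = ϕ y := by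
    intro s y
    rw [map_mul, map_mul, map_inv, mul_comm (ϕ s)⁻¹, mul_assoc, inv_mul_cancel, mul_one]
  have hQconj : ∀ s ∈ (S : Subgroup G), ∀ y ∈ (S : Subgroup G), (s⁻¹ * y * s ∈ Q ↔ y ∈ Q) := by
    intro s hs y hy
    have h := hconj ⟨s, hs⟩ ⟨y, hy⟩
    have h' : (if s⁻¹ * y * s ∈ Q then (1 : ℤˣ) else -1) = if y ∈ Q then 1 else -1 := h
    constructor
    · intro h1
      by_contra h2
      rw [if_pos h1, if_neg h2] at h'
      exact absurd h' (by decide)
    · intro h2
      by_contra h1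
      rw [if_neg h1, if_pos h2] at h'
      exact absurd h' (by decide)
  have hPr : ∀ (g : G) (s : G), s ∈ (S : Subgroup G) →
      ((g * s)⁻¹ * z * (g * s) ∈ (S : Subgroup G) ∧ (g * s)⁻¹ * z * (g * s) ∉ Q ↔
        g⁻¹ * z * g ∈ (S : Subgroup G) ∧ g⁻¹ * z * g ∉ Q) := by
    intro g s hs
    have e : (g * s)⁻¹ * z * (g * s) = s⁻¹ * (g⁻¹ * z * g) * s := by group
    rw [e]
    have hS' : s⁻¹ * (g⁻¹ * z * g) * s ∈ (S : Subgroup G) ↔ g⁻¹ * z * g ∈ (S : Subgroup G) := by
      constructor
      · intro h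
        have e2 : g⁻¹ * z * g = s * (s⁻¹ * (g⁻¹ * z * g) * s) * s⁻¹ := by group
        rw [e2]; exact mul_mem (mul_mem hs h) (inv_mem hs)
      · intro h; exact mul_mem (mul_mem (inv_mem hs) h) hs
    constructor
    · rintro ⟨h1, h2⟩
      have h1' := hS'.mp h1
      exact ⟨h1', fun h3 => h2 ((hQconj s hs _ h1').mpr h3)⟩
    · rintro ⟨h1, h2⟩
      exact ⟨hS'.mpr h1, fun h3 => h2 ((hQconj s hs _ h1).mp h3)⟩
  have hPl : ∀ (g : G) (s : G), s ∈ (S : Subgroup G) →
      (s * g)⁻¹ * z * (s * g) = g⁻¹ * z * g := by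
    intro g s hs
    have e : (s * g)⁻¹ * z * (s * g) = g⁻¹ * (s⁻¹ * (z * s)) * g := by group
    rw [e, ← hzc s hs, inv_mul_cancel_left]
  obtain ⟨B, hBdef⟩ : ∃ B : Set (G ⧸ (S : Subgroup G)), B = {c | c.out⁻¹ * z * c.out ∈ (S : Subgroup G) ∧
      c.out⁻¹ * z * c.out ∉ Q} := ⟨_, rfl⟩
  have hBmem : ∀ c : G ⧸ (S : Subgroup G), c ∈ B ↔ (c.out⁻¹ * z * c.out ∈ (S : Subgroup G) ∧
      c.out⁻¹ * z * c.out ∉ Q) := by
    intro c; rw [hBdef]; exact Iff.rfl
  have hBrep : ∀ g : G, ((QuotientGroup.mk g : G ⧸ (S : Subgroup G)) ∈ B ↔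
      (g⁻¹ * z * g ∈ (S : Subgroup G) ∧ g⁻¹ * z * g ∉ Q)) := by
    intro g
    rw [hBmem]
    obtain ⟨h, hh⟩ := QuotientGroup.mk_out_eq_mul (S : Subgroup G) g
    rw [hh]
    exact hPr g h h.2
  have hB : ∀ (s : ↥(S : Subgroup G)) (c : G ⧸ (S : Subgroup G)), c ∈ B → (s : G) • c ∈ B := by
    intro s c hc
    have e1 : (s : G) • c = (QuotientGroup.mk ((s : G) * c.out) : G ⧸ (S : Subgroup G)) := by
      conv_lhs => rw [← QuotientGroup.out_eq' c]
      rfl
    rw [e1, hBrep, hPl _ _ s.2]
    exact (hBmem c).mp hc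
  have hXB : ∀ c : G ⧸ (S : Subgroup G), (∀ s : ↥(S : Subgroup G), (s : G) • c = c) → c ∈ B := by
    intro c hc
    have hn : c.out⁻¹ ∈ normalizer ((S : Subgroup G) : Set G) := by
      apply mem_normalizer_fintype
      intro s hs
      have h0 : (s⁻¹ : G) • (QuotientGroup.mk c.out : G ⧸ (S : Subgroup G)) =
          QuotientGroup.mk c.out := by
        rw [QuotientGroup.out_eq']; exact hc ⟨s⁻¹, inv_mem hs⟩
      have h1 : (QuotientGroup.mk (s⁻¹ * c.out) : G ⧸ (S : Subgroup G)) =
          QuotientGroup.mk c.out := h0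
      have h2 := QuotientGroup.eq.mp h1
      have e : c.out⁻¹ * s * c.out⁻¹⁻¹ = (s⁻¹ * c.out)⁻¹ * c.out := by group
      rw [e]; exact h2
    have hz' : c.out⁻¹ * z * c.out = z := by
      have h := hN c.out⁻¹ hn
      rwa [inv_inv] at h
    rw [hBmem, hz']; exact ⟨hzS, hzQ⟩
  have hBodd : Odd (Nat.card ↥B) := by
    let actX : MulAction ↥(S : Subgroup G) (G ⧸ (S : Subgroup G)) :=
      MulAction.compHom (G ⧸ (S : Subgroup G)) (S : Subgroup G).subtype
    let actB : MulAction ↥(S : Subgroup G) ↥B :=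
      { smul := fun s b => ⟨(s : G) • (b : G ⧸ (S : Subgroup G)), hB s b.1 b.2⟩
        one_smul := fun b => Subtype.ext (one_smul G (b : G ⧸ (S : Subgroup G)))
        mul_smul := fun s t b => Subtype.ext (mul_smul (s : G) (t : G) (b : G ⧸ (S : Subgroup G))) }
    have h1 := S.2.card_modEq_card_fixedPoints ↥B
    have h2 := S.2.card_modEq_card_fixedPoints (G ⧸ (S : Subgroup G))
    have h3 : Nat.card ↥(MulAction.fixedPoints ↥(S : Subgroup G) ↥B) =
        Nat.card ↥(MulAction.fixedPoints ↥(S : Subgroup G) (G ⧸ (S : Subgroup G))) :=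
      Nat.card_congr
        { toFun := fun b => ⟨b.1.1, fun s => congrArg Subtype.val (b.2 s)⟩
          invFun := fun c => ⟨⟨c.1, hXB c.1 c.2⟩, fun s => Subtype.ext (c.2 s)⟩
          left_inv := fun b => rfl
          right_inv := fun c => rfl }
    have h4 : Nat.card (G ⧸ (S : Subgroup G)) = (S : Subgroup G).index :=
      (Subgroup.index_eq_card _).symm
    have h5 : ¬ 2 ∣ (S : Subgroup G).index := S.not_dvd_index
    rw [h3] at h1
    have h6 : Nat.card ↥B % 2 = Nat.card (G ⧸ (S : Subgroup G)) % 2 := h1.trans h2.symm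
    rw [h4] at h6
    rw [Nat.odd_iff]
    omega
  have hk : ∀ c : G ⧸ (S : Subgroup G), Function.minimalPeriod (z • ·) c = 1 ∨
      Function.minimalPeriod (z • ·) c = 2 := by
    intro c
    have hper : Function.IsPeriodicPt (z • ·) 2 c := by
      show (z • ·)^[2] c = c
      simp only [Function.iterate_succ, Function.iterate_zero, Function.comp_apply, id_eq]
      rw [smul_smul, ← pow_two, hz2, one_smul]
    exact (Nat.dvd_prime Nat.prime_two).mp hper.minimalPeriod_dvd
  have hfixB : ∀ c : G ⧸ (S : Subgroup G), c ∈ B → z • c = c := by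
    intro c h
    have h0 : z • (QuotientGroup.mk c.out : G ⧸ (S : Subgroup G)) = QuotientGroup.mk c.out := by
      show (QuotientGroup.mk (z * c.out) : G ⧸ (S : Subgroup G)) = QuotientGroup.mk c.out
      rw [QuotientGroup.eq]
      have e : (z * c.out)⁻¹ * c.out = (c.out⁻¹ * z * c.out)⁻¹ := by group
      rw [e]; exact inv_mem ((hBmem c).mp h).1
    rwa [QuotientGroup.out_eq'] at h0
  have hE : ∀ c : G ⧸ (S : Subgroup G),
      (c.out⁻¹ * z ^ Function.minimalPeriod (z • ·) c * c.out ∉ Q ↔ c ∈ B) := by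
    intro c
    have hmem := QuotientGroup.out_conj_pow_minimalPeriod_mem (S : Subgroup G) z c
    rcases hk c with h1 | h2
    · rw [h1, pow_one] at hmem ⊢
      rw [hBmem]
      constructor
      · intro h; exact ⟨hmem, h⟩
      · intro h; exact h.2
    · rw [h2, hz2]
      constructor
      · intro h
        exfalso; apply h
        have e : c.out⁻¹ * 1 * c.out = 1 := by group
        rw [e]; exact Q.one_mem
      · intro h
        exfalso
        have h1 : Function.minimalPeriod (z • ·) c = 1 :=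
          Function.minimalPeriod_eq_one_iff_isFixedPt.mpr (hfixB c h)
        omega
  have : Fintype (Quotient (MulAction.orbitRel (Subgroup.zpowers z) (G ⧸ (S : Subgroup G)))) :=
    Fintype.ofFinite _
  have hcard : (Finset.univ.filter fun q : Quotient (MulAction.orbitRel (Subgroup.zpowers z)
      (G ⧸ (S : Subgroup G))) =>
        ¬ (q.out.out⁻¹ * z ^ Function.minimalPeriod (z • ·) q.out * q.out.out ∈ Q)).card =
      Nat.card ↥B := by
    rw [← Fintype.card_subtype, ← Nat.card_eq_fintype_card]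
    apply Nat.card_eq_of_bijective (fun t => (⟨t.1.out, (hE t.1.out).mp t.2⟩ : ↥B))
    constructor
    · intro t t' h
      have h' : t.1.out = t'.1.out := congrArg Subtype.val h
      exact Subtype.ext (Quotient.out_injective h')
    · intro b
      have hfix : z • (b : G ⧸ (S : Subgroup G)) = b := hfixB b.1 b.2
      have hq : (Quotient.mk'' (b : G ⧸ (S : Subgroup G)) :
          Quotient (MulAction.orbitRel (Subgroup.zpowers z) (G ⧸ (S : Subgroup G)))).out = b := by
        have h1 := Quotient.exact' (Quotient.out_eq' (Quotient.mk'' (b : G ⧸ (S : Subgroup G)) :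
          Quotient (MulAction.orbitRel (Subgroup.zpowers z) (G ⧸ (S : Subgroup G)))))
        obtain ⟨t, hteq⟩ := MulAction.mem_orbit_iff.mp (MulAction.orbitRel_apply.mp h1)
        obtain ⟨i, hi⟩ := Subgroup.mem_zpowers_iff.mp t.2
        rw [← hteq]
        show (t : G) • (b : G ⧸ (S : Subgroup G)) = b
        rw [← hi]
        exact MulAction.mem_stabilizer_iff.mp
          (zpow_mem (MulAction.mem_stabilizer_iff.mpr hfix) i)
      refine ⟨⟨Quotient.mk'' (b : G ⧸ (S : Subgroup G)), ?_⟩, ?_⟩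
      · rw [hq]
        exact (hE b).mpr b.2
      · exact Subtype.ext hq
  have hV : MonoidHom.transfer ϕ z = -1 := by
    rw [MonoidHom.transfer_eq_prod_quotient_orbitRel_zpowers_quot]
    simp only [hϕ]
    rw [Finset.prod_ite, Finset.prod_const_one, one_mul, Finset.prod_const, hcard]
    exact hBodd.neg_one_pow
  refine ⟨(MonoidHom.transfer ϕ).ker, inferInstance, ?_, ?_⟩
  · rw [Subgroup.index_ker]
    have hsurj : Function.Surjective (MonoidHom.transfer ϕ) := by
      intro y
      rcases Int.units_eq_one_or y with rfl | rfl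
      · exact ⟨1, map_one _⟩
      · exact ⟨z, hV⟩
    rw [MonoidHom.range_eq_top.mpr hsurj, Subgroup.card_top, Nat.card_eq_fintype_card,
      Fintype.card_units_int]
  · intro hmem
    rw [MonoidHom.mem_ker, hV] at hmem
    exact absurd hmem (by decide)

end Cfsg.Agent.Lead
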