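import Mathlib
import Cfsg.Prelude.Def_TwoFusion
import Cfsg.Prelude.Def_Local
import Cfsg.Agent.S1922
import Cfsg.Agent.S0942
import Cfsg.Agent.S0943
import Cfsg.Agent.S0925
import Cfsg.Agent.Helper6.PowCongr
import Cfsg.Agent.Helper25.FongPrincipal
import Cfsg.Agent.Helper25.TwoClass

/-!
# The block-theoretic claim in Glauberman's Z*-theorem (lead)

`zstar_claim`: in a minimal situation (no central involution, the Z*-theorem known for all
smaller groups), an isolated involution `x` is the only involution of `C_G(x)` inside the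
normal closure of `x`.  Also the elementary lemmas `zc_La`, `zc_Lb`, `zc_F`.
-/

set_option autoImplicit false

universe u

namespace Cfsg.Agent.Lead

open Cfsg

theorem zc_sq_of_order {G : Type*} [Group G] (x : G) (hx : orderOf x = 2) : x * x = 1 := by
  have h := pow_orderOf_eq_one x
  rw [hx, pow_two] at h
  exact h

theorem zc_order_of_sq {G : Type*} [Group G] (x : G) (hx : x * x = 1) (h1 : x ≠ 1) :
    orderOf x = 2 := by
  have : Fact (Nat.Prime 2) := ⟨Nat.prime_two⟩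
  exact orderOf_eq_prime (by rw [pow_two]; exact hx) h1

theorem zc_iso_conj {G : Type*} [Group G] (x : G) (hx : IsIsolatedInvolution x) (t : G) :
    IsIsolatedInvolution (t * x * t⁻¹) := by
  refine ⟨?_, ?_⟩
  · have h := (MulAut.conj t).orderOf_eq x
    rw [MulAut.conj_apply] at h
    rw [h]; exact hx.1
  · intro g h
    have key : Commute x ((t⁻¹ * g * t) * x * (t⁻¹ * g * t)⁻¹) := by
      show x * ((t⁻¹ * g * t) * x * (t⁻¹ * g * t)⁻¹) = ((t⁻¹ * g * t) * x * (t⁻¹ * g * t)⁻¹) * x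
      have e1 : x * ((t⁻¹ * g * t) * x * (t⁻¹ * g * t)⁻¹)
          = t⁻¹ * ((t * x * t⁻¹) * (g * (t * x * t⁻¹) * g⁻¹)) * t := by group
      have e2 : ((t⁻¹ * g * t) * x * (t⁻¹ * g * t)⁻¹) * x
          = t⁻¹ * ((g * (t * x * t⁻¹) * g⁻¹) * (t * x * t⁻¹)) * t := by group
      rw [e1, e2, h.eq]
    have h2 := hx.2 (t⁻¹ * g * t) key
    calc g * (t * x * t⁻¹) * g⁻¹ = t * ((t⁻¹ * g * t) * x * (t⁻¹ * g * t)⁻¹) * t⁻¹ := by group
      _ = t * x * t⁻¹ := by rw [h2]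

/-- The product of an isolated involution with a conjugate has odd order. -/
theorem zc_La {G : Type*} [Group G] [Finite G] (x : G) (hx : IsIsolatedInvolution x) (g : G) :
    Odd (orderOf (x * (g * x * g⁻¹))) := by
  by_contra hodd
  rw [Nat.not_odd_iff_even] at hodd
  obtain ⟨m, hm⟩ := hodd
  have hxx : x * x = 1 := zc_sq_of_order x hx.1
  have hbb : (g * x * g⁻¹) * (g * x * g⁻¹) = 1 := by
    have e1 : (g * x * g⁻¹) * (g * x * g⁻¹) = g * (x * x) * g⁻¹ := by group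
    rw [e1, hxx]; group
  have hm0 : m ≠ 0 := by
    rintro rfl
    have := orderOf_pos (x * (g * x * g⁻¹))
    omega
  obtain ⟨e, he1, hee, hae, hbe, ⟨u, hu⟩, -⟩ :=
    S1922.dih_central x (g * x * g⁻¹) hxx hbb m hm0 hm
  have hconj : ∃ w : G, e * x = w * x * w⁻¹ := by
    rcases hu with hu | hu
    · exact ⟨u, hu⟩
    · refine ⟨u * g, ?_⟩
      rw [hu]; group
  obtain ⟨w, hw⟩ := hconj
  have hcomm : Commute x (w * x * w⁻¹) := by
    rw [← hw]
    show x * (e * x) = e * x * x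
    rw [← mul_assoc, hae]
  have h3 := hx.2 w hcomm
  rw [← hw] at h3
  exact he1 (mul_right_cancel (h3.trans (one_mul x).symm))

/-- Two involutions whose product has odd order are conjugate by a power of the product. -/
theorem zc_Lb {G : Type*} [Group G] (a b : G) (ha : a * a = 1) (hb : b * b = 1)
    (h : Odd (orderOf (a * b))) : ∃ c ∈ Subgroup.zpowers (a * b), c * a * c⁻¹ = b := by
  obtain ⟨m, hm⟩ := h
  have hp : (a * b) ^ (2 * m + 1) = 1 := by rw [← hm]; exact pow_orderOf_eq_one _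
  have h2 : (a * b) ^ (2 * m) = (a * b)⁻¹ := by
    rw [eq_inv_iff_mul_eq_one, ← pow_succ]; exact hp
  refine ⟨(a * b) ^ m, Subgroup.pow_mem _ (Subgroup.mem_zpowers _) m, ?_⟩
  rw [S1922.dih_conj a (a * b) ha (S1922.dih_rel a b ha hb) m, h2,
    mul_inv_rev, inv_mul_cancel_right, S1922.inv_eq_self_of_sq b hb]

/-- Conjugates of `e` inside the centralizer of an isolated involution `x` are conjugate
under the centralizer. -/
theorem zc_F {G : Type*} [Group G] [Finite G] (x : G) (hx : IsIsolatedInvolution x) (e g : G)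
    (he : Commute e x) (hge : Commute (g * e * g⁻¹) x) :
    ∃ c : G, Commute c x ∧ c * e * c⁻¹ = g * e * g⁻¹ := by
  have hxx : x * x = 1 := zc_sq_of_order x hx.1
  have hbb : (g * x * g⁻¹) * (g * x * g⁻¹) = 1 := by
    have e1 : (g * x * g⁻¹) * (g * x * g⁻¹) = g * (x * x) * g⁻¹ := by group
    rw [e1, hxx]; group
  obtain ⟨c, hc, hcab⟩ := zc_Lb x (g * x * g⁻¹) hxx hbb (zc_La x hx g)
  have hcf : Commute c (g * e * g⁻¹) := by
    obtain ⟨k, rfl⟩ := Subgroup.mem_zpowers_iff.mp hc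
    apply Commute.zpow_left
    apply Commute.mul_left hge.symm
    show g * x * g⁻¹ * (g * e * g⁻¹) = g * e * g⁻¹ * (g * x * g⁻¹)
    have e1 : g * x * g⁻¹ * (g * e * g⁻¹) = g * (x * e) * g⁻¹ := by group
    have e2 : g * e * g⁻¹ * (g * x * g⁻¹) = g * (e * x) * g⁻¹ := by group
    rw [e1, e2, he.eq]
  refine ⟨c⁻¹ * g, ?_, ?_⟩
  · show c⁻¹ * g * x = x * (c⁻¹ * g)
    have e1 : c⁻¹ * g * x = c⁻¹ * (g * x * g⁻¹) * g := by group
    rw [e1, ← hcab]; group
  · have e1 : c⁻¹ * g * e * (c⁻¹ * g)⁻¹ = c⁻¹ * ((g * e * g⁻¹) * c) := by group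
    rw [e1, ← hcf.eq, inv_mul_cancel_left]

theorem zc_dih {G : Type*} [Group G] (a b : G) (ha : a * a = 1) (hb : b * b = 1) (m : ℕ)
    (hm : m ≠ 0) (hord : orderOf (a * b) = m + m) :
    (a * b) ^ m ≠ 1 ∧ (a * b) ^ m * (a * b) ^ m = 1 ∧ a * (a * b) ^ m = (a * b) ^ m * a ∧
      b * (a * b) ^ m = (a * b) ^ m * b := by
  have hee : (a * b) ^ m * (a * b) ^ m = 1 := by
    rw [← pow_add, ← hord, pow_orderOf_eq_one]
  have hne : (a * b) ^ m ≠ 1 := pow_ne_one_of_lt_orderOf hm (by omega)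
  have hinv : ((a * b) ^ m)⁻¹ = (a * b) ^ m := S1922.inv_eq_self_of_sq _ hee
  have hae : a * (a * b) ^ m * a = (a * b) ^ m := by
    have h := conj_pow (a := a) (b := a * b) (i := m)
    rw [S1922.inv_eq_self_of_sq a ha, S1922.dih_rel a b ha hb, inv_pow, hinv] at h
    exact h.symm
  have hbe : b * (a * b) ^ m * b = (a * b) ^ m := by
    have h := conj_pow (a := b) (b := a * b) (i := m)
    rw [S1922.inv_eq_self_of_sq b hb, S1922.dih_rel' a b ha hb, inv_pow, hinv] at h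
    exact h.symm
  refine ⟨hne, hee, ?_, ?_⟩
  · calc a * (a * b) ^ m = a * (a * b) ^ m * (a * a) := by rw [ha, mul_one]
      _ = (a * (a * b) ^ m * a) * a := by simp only [mul_assoc]
      _ = (a * b) ^ m * a := by rw [hae]
  · calc b * (a * b) ^ m = b * (a * b) ^ m * (b * b) := by rw [hb, mul_one]
      _ = (b * (a * b) ^ m * b) * b := by simp only [mul_assoc]
      _ = (a * b) ^ m * b := by rw [hbe]

theorem zc_mem_core {G : Type u} [Group G] [Finite G]
    (IH : ∀ (H : Type u) [Group H] [Finite H], Nat.card H < Nat.card G →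
      ∀ y : H, IsIsolatedInvolution y →
        ∃ N : Subgroup H, N.Normal ∧ Odd (Nat.card N) ∧ ∀ g : H, y * g * y⁻¹ * g⁻¹ ∈ N)
    (hZ : ∀ j : G, orderOf j = 2 → j ∈ Subgroup.center G → False)
    (x₁ : G) (hx₁ : IsIsolatedInvolution x₁) (j : G) (hj : orderOf j = 2)
    (hjx : x₁ * j = j * x₁) (f₁ : G) (hjf : f₁ * j = j * f₁) :
    x₁ * f₁ * x₁⁻¹ * f₁⁻¹ ∈ centralizerPPrimeCore 2 j := by
  have hlt : Nat.card (Subgroup.centralizer ({j} : Set G)) < Nat.card G := by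
    refine lt_of_le_of_ne (Subgroup.card_le_card_group _) ?_
    intro hcard
    have htop : Subgroup.centralizer ({j} : Set G) = ⊤ := Subgroup.eq_top_of_card_eq _ hcard
    apply hZ j hj
    rw [Subgroup.mem_center_iff]
    intro g
    have hg : g ∈ Subgroup.centralizer ({j} : Set G) := by rw [htop]; exact Subgroup.mem_top g
    exact Subgroup.mem_centralizer_singleton_iff.mp hg
  have hxmem : x₁ ∈ Subgroup.centralizer ({j} : Set G) :=
    Subgroup.mem_centralizer_singleton_iff.mpr hjx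
  have hfmem : f₁ ∈ Subgroup.centralizer ({j} : Set G) :=
    Subgroup.mem_centralizer_singleton_iff.mpr hjf
  have hy : IsIsolatedInvolution (⟨x₁, hxmem⟩ : Subgroup.centralizer ({j} : Set G)) := by
    refine ⟨?_, ?_⟩
    · rw [Subgroup.orderOf_mk]; exact hx₁.1
    · intro h hc
      apply Subtype.ext
      have hc' : Commute x₁ ((h : G) * x₁ * (h : G)⁻¹) := by
        show x₁ * ((h : G) * x₁ * (h : G)⁻¹) = (h : G) * x₁ * (h : G)⁻¹ * x₁
        exact congrArg Subtype.val hc.eq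
      exact hx₁.2 (h : G) hc'
  obtain ⟨N, hN, hNodd, hNmem⟩ := IH _ hlt _ hy
  have hle : N ≤ pPrimeCore 2 (Subgroup.centralizer ({j} : Set G)) :=
    le_sSup ⟨hN, Nat.coprime_two_right.mpr hNodd⟩
  have hmem := hle (hNmem ⟨f₁, hfmem⟩)
  show _ ∈ (pPrimeCore 2 ↥(Subgroup.centralizer ({j} : Set G))).map
    (Subgroup.centralizer ({j} : Set G)).subtype
  exact Subgroup.mem_map.mpr ⟨_, hmem, rfl⟩

theorem zc_lemma2 {G : Type u} [Group G] [Finite G] (x : G) (hx : IsIsolatedInvolution x)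
    (IH : ∀ (H : Type u) [Group H] [Finite H], Nat.card H < Nat.card G →
      ∀ y : H, IsIsolatedInvolution y →
        ∃ N : Subgroup H, N.Normal ∧ Odd (Nat.card N) ∧ ∀ g : H, y * g * y⁻¹ * g⁻¹ ∈ N)
    (hZ : ∀ j : G, orderOf j = 2 → j ∈ Subgroup.center G → False)
    (M : Ideal AlgInt) (hM : IsPModular 2 M)
    (f : G) (hf : f * f = 1) (hfx : Commute f x) (hne : f ≠ x)
    (χ : IrrCharacter G) (hχ : χ ∈ principalBlock M G)
    (t s : G) :
    (χ : G → ℂ) ((t * x * t⁻¹) * (s * f * s⁻¹)) = (χ : G → ℂ) (x * f) := by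
  have : Fact (Nat.Prime 2) := ⟨Nat.prime_two⟩
  have hcl : ∀ g h : G, (χ : G → ℂ) (h * g * h⁻¹) = (χ : G → ℂ) g :=
    Helper24.char_conj_invariant (Helper24.isCharacter_of_irr χ.2)
  have hxx : x * x = 1 := zc_sq_of_order x hx.1
  obtain ⟨x₁, hx₁def⟩ : ∃ x₁ : G, x₁ = t * x * t⁻¹ := ⟨_, rfl⟩
  obtain ⟨f₁, hf₁def⟩ : ∃ f₁ : G, f₁ = s * f * s⁻¹ := ⟨_, rfl⟩
  rw [← hx₁def, ← hf₁def]
  have hx₁iso : IsIsolatedInvolution x₁ := by rw [hx₁def]; exact zc_iso_conj x hx t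
  have hx₁x₁ : x₁ * x₁ = 1 := zc_sq_of_order x₁ hx₁iso.1
  have hf₁f₁ : f₁ * f₁ = 1 := by
    rw [hf₁def]
    have e1 : (s * f * s⁻¹) * (s * f * s⁻¹) = s * (f * f) * s⁻¹ := by group
    rw [e1, hf]; group
  rcases Nat.even_or_odd (orderOf (x₁ * f₁)) with hev | hodd
  · obtain ⟨m, hm⟩ := hev
    have hm0 : m ≠ 0 := by
      rintro rfl
      have := orderOf_pos (x₁ * f₁)
      omega
    obtain ⟨hj1, hjj, hjx, hjf⟩ := zc_dih x₁ f₁ hx₁x₁ hf₁f₁ m hm0 hm
    have hrel : x₁ * (x₁ * f₁) * x₁ = (x₁ * f₁)⁻¹ := S1922.dih_rel x₁ f₁ hx₁x₁ hf₁f₁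
    have hrel' : f₁ * (x₁ * f₁) * f₁ = (x₁ * f₁)⁻¹ := S1922.dih_rel' x₁ f₁ hx₁x₁ hf₁f₁
    have hmodd : Odd m := by
      by_contra hmo
      rw [Nat.not_odd_iff_even] at hmo
      obtain ⟨i, hi⟩ := hmo
      have hc := S1922.dih_conj x₁ (x₁ * f₁) hx₁x₁ hrel i
      have h2i : 2 * i = m := by omega
      rw [h2i] at hc
      have hcomm : Commute x₁ ((x₁ * f₁) ^ i * x₁ * ((x₁ * f₁) ^ i)⁻¹) := by
        rw [hc]
        show x₁ * ((x₁ * f₁) ^ m * x₁) = (x₁ * f₁) ^ m * x₁ * x₁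
        rw [← mul_assoc, hjx]
      have h3 := hx₁iso.2 ((x₁ * f₁) ^ i) hcomm
      rw [hc] at h3
      exact hj1 (mul_right_cancel (h3.trans (one_mul x₁).symm))
    obtain ⟨i, hi⟩ := hmodd
    have hjord : orderOf ((x₁ * f₁) ^ m) = 2 := zc_order_of_sq _ hjj hj1
    have hcore := zc_mem_core IH hZ x₁ hx₁iso ((x₁ * f₁) ^ m) hjord hjx f₁ hjf
    have hgg : x₁ * f₁ * x₁⁻¹ * f₁⁻¹ = (x₁ * f₁) ^ 2 := by
      rw [S1922.inv_eq_self_of_sq x₁ hx₁x₁, S1922.inv_eq_self_of_sq f₁ hf₁f₁, pow_two]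
      simp only [mul_assoc]
    rw [hgg] at hcore
    have ho : (x₁ * f₁) ^ (m + 1) ∈ centralizerPPrimeCore 2 ((x₁ * f₁) ^ m) := by
      have h4 : (x₁ * f₁) ^ (m + 1) = ((x₁ * f₁) ^ 2) ^ (i + 1) := by
        rw [← pow_mul]; congr 1; omega
      rw [h4]
      exact Subgroup.pow_mem _ hcore _
    have hgo : (x₁ * f₁) ^ m * (x₁ * f₁) ^ (m + 1) = x₁ * f₁ := by
      rw [← pow_add, ← add_assoc, pow_succ, ← hm, pow_orderOf_eq_one, one_mul]
    have h942 := Cfsg.Agent.S0942.result 2 M hM ((x₁ * f₁) ^ m) ⟨1, by rw [hjord, pow_one]⟩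
      ((x₁ * f₁) ^ (m + 1)) ho χ hχ
    rw [hgo] at h942
    rw [h942]
    have hf' : (x₁ * f₁) ^ m * x₁ = (x₁ * f₁) ^ (i + 1) * f₁ * ((x₁ * f₁) ^ (i + 1))⁻¹ := by
      rw [S1922.dih_conj f₁ (x₁ * f₁) hf₁f₁ hrel' (i + 1)]
      have h5 : 2 * (i + 1) = m + 1 := by omega
      rw [h5, pow_succ]
      have h6 : (x₁ * f₁) ^ m * (x₁ * f₁) * f₁ = (x₁ * f₁) ^ m * (x₁ * (f₁ * f₁)) := by
        simp only [mul_assoc]
      rw [h6, hf₁f₁, mul_one]
    have hjeq : (x₁ * f₁) ^ m = x₁ * ((x₁ * f₁) ^ m * x₁) := by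
      rw [← mul_assoc, hjx, mul_assoc, hx₁x₁, mul_one]
    obtain ⟨w, hw⟩ : ∃ w : G, w = (x₁ * f₁) ^ (i + 1) := ⟨_, rfl⟩
    rw [← hw] at hf'
    have hf'' : (x₁ * f₁) ^ m * x₁ = t * ((t⁻¹ * w * s) * f * (t⁻¹ * w * s)⁻¹) * t⁻¹ := by
      rw [hf', hf₁def]; group
    have hcomm2 : Commute ((t⁻¹ * w * s) * f * (t⁻¹ * w * s)⁻¹) x := by
      have h7 : ((x₁ * f₁) ^ m * x₁) * x₁ = x₁ * ((x₁ * f₁) ^ m * x₁) := by
        rw [← mul_assoc x₁, hjx]
      rw [hf''] at h7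
      rw [hx₁def] at h7
      show (t⁻¹ * w * s) * f * (t⁻¹ * w * s)⁻¹ * x = x * ((t⁻¹ * w * s) * f * (t⁻¹ * w * s)⁻¹)
      have e1 : (t⁻¹ * w * s) * f * (t⁻¹ * w * s)⁻¹ * x
          = t⁻¹ * (t * ((t⁻¹ * w * s) * f * (t⁻¹ * w * s)⁻¹) * t⁻¹ * (t * x * t⁻¹)) * t := by
        group
      have e2 : x * ((t⁻¹ * w * s) * f * (t⁻¹ * w * s)⁻¹)
          = t⁻¹ * (t * x * t⁻¹ * (t * ((t⁻¹ * w * s) * f * (t⁻¹ * w * s)⁻¹) * t⁻¹)) * t := by
        group
      rw [e1, e2, h7]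
    obtain ⟨c, hcx, hcf⟩ := zc_F x hx f (t⁻¹ * w * s) hfx hcomm2
    have hfinal : (x₁ * f₁) ^ m = (t * c) * (x * f) * (t * c)⁻¹ := by
      rw [hjeq, hf'', ← hcf, hx₁def]
      have e3 : t * x * t⁻¹ * (t * (c * f * c⁻¹) * t⁻¹) = t * (x * c) * f * c⁻¹ * t⁻¹ := by
        group
      rw [e3, ← hcx.eq]; group
    rw [hfinal, hcl]
  · exfalso
    obtain ⟨u, hu⟩ := S1922.dih_midpoint x₁ f₁ hx₁x₁ hf₁f₁ hodd
    obtain ⟨w, hw⟩ : ∃ w : G, w = u * x₁ * u⁻¹ := ⟨_, rfl⟩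
    rw [← hw] at hu
    have hfc : f = (s⁻¹ * w * t) * x * (s⁻¹ * w * t)⁻¹ := by
      calc f = s⁻¹ * (s * f * s⁻¹) * s := by group
        _ = s⁻¹ * f₁ * s := by rw [hf₁def]
        _ = s⁻¹ * (w * x₁ * w⁻¹) * s := by rw [hu]
        _ = s⁻¹ * (w * (t * x * t⁻¹) * w⁻¹) * s := by rw [hx₁def]
        _ = (s⁻¹ * w * t) * x * (s⁻¹ * w * t)⁻¹ := by group
    have hcomm : Commute x ((s⁻¹ * w * t) * x * (s⁻¹ * w * t)⁻¹) := by
      rw [← hfc]; exact hfx.symm
    have h3 := hx.2 (s⁻¹ * w * t) hcomm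
    rw [← hfc] at h3
    exact hne h3

/-- **The block-theoretic claim of the Z*-theorem.** -/
theorem zstar_claim.{v} : ∀ (G : Type v) [Group G] [Finite G] (x : G),
    Cfsg.IsIsolatedInvolution x →
    (∀ (H : Type v) [Group H] [Finite H], Nat.card H < Nat.card G → ∀ y : H,
      Cfsg.IsIsolatedInvolution y → ∃ N : Subgroup H, N.Normal ∧ Odd (Nat.card N) ∧
        ∀ g : H, y * g * y⁻¹ * g⁻¹ ∈ N) →
    (∀ j : G, orderOf j = 2 → j ∈ Subgroup.center G → False) →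
    ∀ e : G, orderOf e = 2 → Commute e x → e ∈ Subgroup.normalClosure ({x} : Set G) →
      e = x := by
  intro G _ _ x hx IH hZ e he hex heL
  by_contra hne
  have : Fact (Nat.Prime 2) := ⟨Nat.prime_two⟩
  obtain ⟨M, hM⟩ := Helper6.PowCongr.exists_pModular 2 Nat.prime_two
  haveI : Finite (IrrCharacter G) := Helper24.finite_irrCharacter
  have hxx : x * x = 1 := zc_sq_of_order x hx.1
  have hee : e * e = 1 := zc_sq_of_order e he
  have he1 : e ≠ 1 := by
    intro h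
    rw [h, orderOf_one] at he
    omega
  have hxe2 : (x * e) * (x * e) = 1 := by
    have e1 : (x * e) * (x * e) = x * (e * x) * e := by group
    rw [e1, hex.eq]
    have e2 : x * (x * e) * e = (x * x) * (e * e) := by group
    rw [e2, hxx, hee, one_mul]
  have hxex : Commute (x * e) x := by
    show x * e * x = x * (x * e)
    rw [mul_assoc, hex.eq]
  have hxene : x * e ≠ x := by
    intro h
    apply he1
    have h' : x * e = x * 1 := by rw [h, mul_one]
    exact mul_left_cancel h'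
  -- Step A
  have hA : ∀ χ : IrrCharacter G, χ ∈ principalBlock M G →
      (χ : G → ℂ) x * ((χ : G → ℂ) x * (χ : G → ℂ) e)
        = (χ : G → ℂ) 1 * ((χ : G → ℂ) 1 * (χ : G → ℂ) e) := by
    intro χ hχ
    have h1 := Cfsg.Agent.S0943.result χ x e (by
      intro x' y' hx' hy'
      obtain ⟨t, rfl⟩ := isConj_iff.mp hx'
      obtain ⟨s, rfl⟩ := isConj_iff.mp hy'
      exact zc_lemma2 x hx IH hZ M hM e hee hex hne χ hχ t s)
    have h2 := Cfsg.Agent.S0943.result χ x (x * e) (by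
      intro x' y' hx' hy'
      obtain ⟨t, rfl⟩ := isConj_iff.mp hx'
      obtain ⟨s, rfl⟩ := isConj_iff.mp hy'
      exact zc_lemma2 x hx IH hZ M hM (x * e) hxe2 hxex hxene χ hχ t s)
    have h3 : x * (x * e) = e := by rw [← mul_assoc, hxx, one_mul]
    rw [h3] at h2
    rw [h1, mul_left_comm, h2]
  -- Step B
  have hB0 : IsPBlock M (principalBlock M G) := ⟨Helper25.oneIrr G, rfl⟩
  have hpp1 : IsPPart 2 (1 : G) 1 :=
    ⟨1, mul_one 1, Commute.one_right 1, ⟨0, by simp⟩, by simp⟩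
  have hppe : IsPPart 2 e e :=
    ⟨1, mul_one e, Commute.one_right e, ⟨1, by rw [he, pow_one]⟩, by simp⟩
  have hppx : IsPPart 2 x x :=
    ⟨1, mul_one x, Commute.one_right x, ⟨1, by rw [hx.1, pow_one]⟩, by simp⟩
  have hnc1 : ¬ IsConj (1 : G) e := by
    intro h
    exact he1 (isConj_one_right.mp h)
  have hncx : ¬ IsConj x e := by
    intro h
    obtain ⟨c, hc⟩ := isConj_iff.mp h
    have h3 := hx.2 c (by rw [hc]; exact hex.symm)
    exact hne (hc.symm.trans h3)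
  have hS := (Cfsg.Agent.S0925.result (G := G) 2 M hM).2
  have hs1 := hS 1 e 1 e hpp1 hppe hnc1 _ hB0
  have hs2 := hS x e x e hppx hppe hncx _ hB0
  rw [S1922.inv_eq_self_of_sq e hee] at hs1 hs2
  -- Step C
  have hterm : ∀ χ : IrrCharacter G, χ ∈ principalBlock M G →
      ∃ r : ℝ, 0 ≤ r ∧
        (χ : G → ℂ) 1 * (χ : G → ℂ) e + (χ : G → ℂ) x * (χ : G → ℂ) e = (r : ℂ) := by
    intro χ hχ
    have hchar := Helper24.isCharacter_of_irr χ.2
    have hd := Helper24.charDegree_spec hchar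
    have hcl : ∀ g h : G, (χ : G → ℂ) (h * g * h⁻¹) = (χ : G → ℂ) g :=
      Helper24.char_conj_invariant hchar
    have hAχ := hA χ hχ
    by_cases hb : (χ : G → ℂ) e = 0
    · exact ⟨0, le_refl 0, by rw [hb]; simp⟩
    · have hsq : (χ : G → ℂ) x * (χ : G → ℂ) x = (χ : G → ℂ) 1 * (χ : G → ℂ) 1 := by
        have h4 : ((χ : G → ℂ) x * (χ : G → ℂ) x) * (χ : G → ℂ) e
            = ((χ : G → ℂ) 1 * (χ : G → ℂ) 1) * (χ : G → ℂ) e := by
          rw [mul_assoc, mul_assoc]; exact hAχ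
        exact mul_right_cancel₀ hb h4
      rcases mul_self_eq_mul_self_iff.mp hsq with hk | hk
      · have hker : e ∈ Helper25.irrKer (χ : G → ℂ) χ.2 := by
          haveI : (Helper25.irrKer (χ : G → ℂ) χ.2).Normal := ⟨by
            intro n hn g
            rw [Helper25.mem_irrKer] at hn ⊢
            rw [hcl]; exact hn⟩
          have hle : Subgroup.normalClosure ({x} : Set G) ≤ Helper25.irrKer (χ : G → ℂ) χ.2 := by
            apply Subgroup.normalClosure_le_normal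
            intro y hy
            rw [Set.mem_singleton_iff] at hy
            rw [hy]
            exact (Helper25.mem_irrKer _ _ _).mpr hk
          exact hle heL
        have hke : (χ : G → ℂ) e = (χ : G → ℂ) 1 := (Helper25.mem_irrKer _ _ _).mp hker
        refine ⟨2 * ((charDegree (χ : G → ℂ) : ℝ) * (charDegree (χ : G → ℂ) : ℝ)),
          by positivity, ?_⟩
        rw [hke, hk, hd]
        push_cast
        ring
      · refine ⟨0, le_refl 0, ?_⟩
        rw [hk]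
        push_cast
        ring
  have hfin : (principalBlock M G).Finite := Set.toFinite _
  have hsum : ∑ᶠ χ ∈ principalBlock M G,
      ((χ : G → ℂ) 1 * (χ : G → ℂ) e + (χ : G → ℂ) x * (χ : G → ℂ) e) = 0 := by
    rw [finsum_mem_add_distrib hfin, hs1, hs2, add_zero]
  rw [finsum_mem_eq_finite_toFinset_sum _ hfin] at hsum
  have hre := congrArg Complex.re hsum
  rw [Complex.re_sum, Complex.zero_re] at hre
  have hone : Helper25.oneIrr G ∈ hfin.toFinset := by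
    rw [Set.Finite.mem_toFinset]
    exact Helper25.sameBlock_refl hM.2.1.ne_top _
  have hnn : ∀ χ ∈ hfin.toFinset,
      0 ≤ ((χ : G → ℂ) 1 * (χ : G → ℂ) e + (χ : G → ℂ) x * (χ : G → ℂ) e).re := by
    intro χ hχ
    rw [Set.Finite.mem_toFinset] at hχ
    obtain ⟨r, hr, hreq⟩ := hterm χ hχ
    rw [hreq, Complex.ofReal_re]
    exact hr
  have hle := (Finset.single_le_sum hnn hone).trans (le_of_eq hre)
  simp only [Helper25.oneIrr_apply] at hle
  norm_num at hle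

end Cfsg.Agent.Lead
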