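import Mathlib
import Cfsg.Agent.Helper8.ZStarGen
import Cfsg.Agent.Lead.Fusion
import Cfsg.Agent.Lead.AbelianSylow

set_option autoImplicit false

namespace Cfsg.Agent.Lead

/-- a `p`-subgroup is conjugate into any given Sylow `p`-subgroup. -/
theorem pgroup_conj_into_sylow {G : Type*} [Group G] [Finite G] {p : ℕ} [Fact p.Prime]
    (S : Sylow p G) (Q : Subgroup G) (hQ : IsPGroup p Q) :
    ∃ g : G, ∀ y ∈ Q, g⁻¹ * y * g ∈ (S : Subgroup G) := by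
  obtain ⟨S', hS'⟩ := hQ.exists_le_sylow
  obtain ⟨g, rfl⟩ := MulAction.exists_smul_eq G S S'
  exact ⟨g, fun y hy => (mem_smul_sylow S g y).1 (hS' hy)⟩

/-- a 2-element of a subgroup `C` containing a Sylow 2-subgroup `P` of `G` is `C`-conjugate
into `P`. -/
theorem two_elt_conj_in_sub {G : Type*} [Group G] [Finite G] (P : Sylow 2 G) (C : Subgroup G)
    (hPC : (P : Subgroup G) ≤ C) (a : G) (haC : a ∈ C) (k : ℕ) (hak : a ^ 2 ^ k = 1) :
    ∃ c ∈ C, c⁻¹ * a * c ∈ (P : Subgroup G) := by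
  have hak' : (⟨a, haC⟩ : ↥C) ^ 2 ^ k = 1 := Subtype.ext hak
  have hQ : IsPGroup 2 (Subgroup.zpowers (⟨a, haC⟩ : ↥C)) :=
    isPGroup_zpowers_of_pow _ k hak'
  obtain ⟨c, hc⟩ := pgroup_conj_into_sylow (P.subtype hPC) _ hQ
  have h1 := hc ⟨a, haC⟩ (Subgroup.mem_zpowers _)
  have h2 : (c⁻¹ * ⟨a, haC⟩ * c : ↥C) ∈ (P : Subgroup G).subgroupOf C := h1
  exact ⟨c.1, c.2, Subgroup.mem_subgroupOf.1 h2⟩

/-- **Glauberman's Z*-theorem for weakly closed elements**: if `x` lies in the Sylow 2-subgroup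
`S` and is its own only conjugate in `S`, then `x` is central modulo `O(G)`. -/
theorem zstar_weakly_closed {G : Type*} [Group G] [Finite G] (S : Sylow 2 G) (x : G)
    (hxS : x ∈ (S : Subgroup G))
    (hwc : ∀ g : G, g * x * g⁻¹ ∈ (S : Subgroup G) → g * x * g⁻¹ = x) :
    ∀ g : G, x * g * x⁻¹ * g⁻¹ ∈ Cfsg.oddCore G := by
  apply Cfsg.Agent.Helper8.zstar_wc S x hxS
  intro i g hg
  have hxZ : ∀ s ∈ (S : Subgroup G), s * x = x * s := by
    intro s hs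
    have h1 := hwc s (Subgroup.mul_mem _ (Subgroup.mul_mem _ hs hxS) (Subgroup.inv_mem _ hs))
    exact mul_inv_eq_iff_eq_mul.1 h1
  obtain ⟨k, hk⟩ := S.isPGroup' ⟨x, hxS⟩
  have hxk : x ^ 2 ^ k = 1 := congrArg Subtype.val hk
  obtain ⟨y, hy⟩ : ∃ y, y = x ^ i := ⟨_, rfl⟩
  rw [← hy] at hg ⊢
  obtain ⟨y', hy'⟩ : ∃ y', y' = g * y * g⁻¹ := ⟨_, rfl⟩
  rw [← hy'] at hg ⊢
  have hyZ : ∀ s ∈ (S : Subgroup G), s * y = y * s := by
    intro s hs
    rw [hy]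
    exact ((show Commute s x from hxZ s hs).pow_right i).eq
  have hyk : y ^ 2 ^ k = 1 := by rw [hy, ← pow_mul, mul_comm, pow_mul, hxk, one_pow]
  have hyy' : y' * y = y * y' := hyZ y' hg
  have hS'C : ((g • S : Sylow 2 G) : Subgroup G) ≤ Subgroup.centralizer ({y'} : Set G) := by
    intro s hs
    rw [mem_smul_sylow] at hs
    rw [Subgroup.mem_centralizer_singleton_iff]
    have h1 := hyZ _ hs
    rw [hy']
    calc s * (g * y * g⁻¹) = g * (g⁻¹ * s * g * y) * g⁻¹ := by group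
      _ = g * (y * (g⁻¹ * s * g)) * g⁻¹ := by rw [h1]
      _ = g * y * g⁻¹ * s := by group
  have hyC' : y ∈ Subgroup.centralizer ({y'} : Set G) :=
    Subgroup.mem_centralizer_singleton_iff.2 hyy'.symm
  obtain ⟨c, hcC, hc⟩ := two_elt_conj_in_sub (g • S) _ hS'C y hyC' k hyk
  rw [mem_smul_sylow] at hc
  have h2 := hxZ _ hc
  obtain ⟨x₁, hx₁⟩ : ∃ x₁, x₁ = c * g * x * g⁻¹ * c⁻¹ := ⟨_, rfl⟩
  have hx₁y : x₁ * y = y * x₁ := by
    rw [hx₁]
    calc c * g * x * g⁻¹ * c⁻¹ * y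
        = c * g * (x * (g⁻¹ * (c⁻¹ * y * c) * g)) * g⁻¹ * c⁻¹ := by group
      _ = c * g * (g⁻¹ * (c⁻¹ * y * c) * g * x) * g⁻¹ * c⁻¹ := by rw [h2]
      _ = y * (c * g * x * g⁻¹ * c⁻¹) := by group
  have hSC : (S : Subgroup G) ≤ Subgroup.centralizer ({y} : Set G) := by
    intro s hs
    exact Subgroup.mem_centralizer_singleton_iff.2 (hyZ s hs)
  have hx₁C : x₁ ∈ Subgroup.centralizer ({y} : Set G) :=
    Subgroup.mem_centralizer_singleton_iff.2 hx₁y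
  have hconj : c * g * x * g⁻¹ * c⁻¹ = (c * g) * x * (c * g)⁻¹ := by group
  have hx₁k : x₁ ^ 2 ^ k = 1 := by
    rw [hx₁, hconj, conj_pow, hxk]; group
  obtain ⟨d, hdC, hd⟩ := two_elt_conj_in_sub S _ hSC x₁ hx₁C k hx₁k
  have h3 : (d⁻¹ * c * g) * x * (d⁻¹ * c * g)⁻¹ = d⁻¹ * x₁ * d := by rw [hx₁]; group
  have h4 := hwc (d⁻¹ * c * g) (by rw [h3]; exact hd)
  rw [h3] at h4
  have hcy' : c * y' = y' * c := Subgroup.mem_centralizer_singleton_iff.1 hcC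
  have hdy : d * y = y * d := Subgroup.mem_centralizer_singleton_iff.1 hdC
  have e1 : x₁ ^ i = y' := by
    rw [hx₁, hconj, conj_pow, ← hy]
    calc c * g * y * (c * g)⁻¹ = c * (g * y * g⁻¹) * c⁻¹ := by group
      _ = c * y' * c⁻¹ := by rw [hy']
      _ = y' := by rw [hcy', mul_assoc, mul_inv_cancel, mul_one]
  have e2 : x₁ ^ i = y := by
    have h5 : x₁ = d * x * d⁻¹ := by rw [← h4]; group
    rw [h5, conj_pow, ← hy, hdy, mul_assoc, mul_inv_cancel, mul_one]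
  rw [← e1, e2]

end Cfsg.Agent.Lead
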